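import Cfsg.Agent.H947.Cyc.Sz
import Cfsg.Agent.H278.Cov.Defs

/-!
# No covering by two classes of proper subgroups (helper947, for S2499): the Suzuki groups
-/

set_option autoImplicit false
set_option linter.style.haveILetI false

namespace Cfsg.Agent.H947.Cv

open MulAction Subgroup Cfsg Cfsg.Agent.H396 Cfsg.Agent.H394.SqBasic Cfsg.Agent.H947.El
open Cfsg.Agent.H101.SzAbs Cfsg.Agent.H101.SzGeo Cfsg.Agent.H101.SzAbs.Geo Cfsg.Agent.H101.SzSub

/-- a prime divisor of `|G|` divides `|H|` or `|K|` -/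
theorem prime_dvd {G : Type*} [Group G] [Finite G] {H K : Subgroup G}
    (hcov : ∀ g : G, ∃ x : G, x * g * x⁻¹ ∈ H ∨ x * g * x⁻¹ ∈ K) {l : ℕ} (hl : l.Prime) (hd : l ∣ Nat.card G) :
    l ∣ Nat.card H ∨ l ∣ Nat.card K := by
  have : Fact l.Prime := ⟨hl⟩
  obtain ⟨g, hg⟩ := exists_prime_orderOf_dvd_card' (G := G) l hd
  obtain ⟨x, hx⟩ := hcov g
  have h1 : orderOf (x * g * x⁻¹) = l := by rw [← MulAut.conj_apply, MulEquiv.orderOf_eq, hg]
  rcases hx with hx | hx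
  · left; rw [← h1]; exact Subgroup.orderOf_dvd_natCard _ hx
  · right; rw [← h1]; exact Subgroup.orderOf_dvd_natCard _ hx

variable {F : Type*} [Field F] [Fintype F] {m : ℕ}

/-- odd primes in the normaliser of a Sylow 2-subgroup divide `q - 1` -/
theorem sz_borel (hm : 1 ≤ m) (hF : Fintype.card F = 2 ^ (2 * m + 1)) (M : Subgroup (Cfsg.Sz F m))
    (P0 : Sylow 2 (Cfsg.Sz F m)) (hP0 : M ≤ Subgroup.normalizer ((P0 : Subgroup (Cfsg.Sz F m)) : Set (Cfsg.Sz F m)))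
    {l : ℕ} (hl : l.Prime) (hl2 : l ≠ 2) (hd : l ∣ Nat.card M) : l ∣ 2 ^ (2 * m + 1) - 1 := by
  obtain ⟨q, r, hq, hr, h8, h2q, h2r, hrq, hrr⟩ := num_sz m hm
  have hfin : Finite (Cfsg.Sz F m) := inferInstance
  have hcardG := Cfsg.Agent.S0324.result hm hF
  rw [← hq] at hcardG
  have : Fact l.Prime := ⟨hl⟩
  obtain ⟨x, hx⟩ := exists_prime_orderOf_dvd_card' (G := M) l hd
  have hxo : orderOf (x : Cfsg.Sz F m) = l := by rw [Subgroup.orderOf_coe, hx]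
  obtain ⟨S, hSP, -⟩ := exists_sylow hm hF (inf F m)
  obtain ⟨g, hg⟩ := exists_smul_eq (Cfsg.Sz F m) P0 S
  have hy : g * (x : Cfsg.Sz F m) * g⁻¹ ∈ Subgroup.normalizer ((S : Subgroup (Cfsg.Sz F m)) : Set (Cfsg.Sz F m)) := by
    rw [← hg, Sylow.coe_subgroup_smul]
    exact conj_mem_normalizer_map g (hP0 x.2)
  rw [hSP] at hy
  have hSne : (S : Subgroup (Cfsg.Sz F m)) ≠ ⊥ := by
    refine S.ne_bot_of_dvd_card ?_
    rw [hcardG]
    exact ((h2q.pow (by norm_num)).mul_right _).mul_right _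
  obtain ⟨t, ht⟩ := Subgroup.ne_bot_iff_exists_ne_one.1 hSne
  have ht1 : (t : Cfsg.Sz F m) ≠ 1 := fun h => ht (Subtype.ext h)
  have htP : (t : Cfsg.Sz F m) ∈ P hF (inf F m) := by rw [← hSP]; exact t.2
  set y := g * (x : Cfsg.Sz F m) * g⁻¹ with hyd
  have h1 := (Subgroup.mem_normalizer_iff.1 hy t).1 htP
  have h2 := conj_mem_P hm hF y _ _ htP
  have hne : y * t * y⁻¹ ≠ 1 := by
    intro h
    apply ht1
    calc (t : Cfsg.Sz F m) = y⁻¹ * (y * t * y⁻¹) * y := by group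
      _ = 1 := by rw [h]; group
  have h3 := (geo hm hF).free (inf F m) (y • inf F m) _ h1 ((geo hm hF).le _ _ h2) hne
  have h4 : y ∈ MulAction.stabilizer (Cfsg.Sz F m) (Cfsg.suzukiPointInfinity F) := congrArg Subtype.val h3
  have h5 := Subgroup.orderOf_dvd_natCard _ h4
  rw [Cfsg.Agent.S0329.result hm hF, ← hq] at h5
  have h6 : orderOf y = l := by rw [hyd, ← MulAut.conj_apply, MulEquiv.orderOf_eq, hxo]
  rw [h6] at h5
  rcases hl.dvd_mul.1 h5 with h7 | h7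
  · have h8 := hl.dvd_of_dvd_pow h7
    rw [hq] at h8
    exact absurd ((Nat.prime_dvd_prime_iff_eq hl Nat.prime_two).1 (hl.dvd_of_dvd_pow h8)) hl2
  · rwa [← hq]

/-- the primitive prime of a smaller Suzuki group -/
theorem sz_sub {k m e : ℕ} {K : Type*} [Field K] [Fintype K] (hk1 : 1 ≤ k) (hkm : k < m)
    (hK : Fintype.card K = 2 ^ (2 * k + 1)) {l : ℕ} (hl : l.Prime) (hl2 : l ≠ 2)
    (he : e = 2 * m + 1 ∨ e = 4 * (2 * m + 1)) (hl1 : ∀ n, l ∣ 2 ^ n - 1 ↔ e ∣ n) :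
    ¬ l ∣ Nat.card (Cfsg.Sz K k) := by
  intro h1
  rw [Cfsg.Agent.S0324.result hk1 hK] at h1
  obtain ⟨w, hw⟩ : ∃ w, w = 2 ^ (2 * k + 1) := ⟨_, rfl⟩
  rw [← hw] at h1
  have h2 : l ∣ w ^ 4 - 1 := by
    have e2 : w ^ 4 - 1 = (w ^ 2 + 1) * ((w - 1) * (w + 1)) := by
      have h3 : (w ^ 2) ^ 2 - 1 ^ 2 = (w ^ 2 + 1) * (w ^ 2 - 1) := Nat.sq_sub_sq _ _
      have h4 : w ^ 2 - 1 ^ 2 = (w + 1) * (w - 1) := Nat.sq_sub_sq _ _
      rw [one_pow] at h3 h4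
      rw [h4, mul_comm (w + 1)] at h3
      rw [← h3, ← pow_mul]
    rw [e2]
    rcases hl.dvd_mul.1 h1 with h3 | h3
    · rcases hl.dvd_mul.1 h3 with h4 | h4
      · have h5 := hl.dvd_of_dvd_pow h4
        rw [hw] at h5
        exact absurd ((Nat.prime_dvd_prime_iff_eq hl Nat.prime_two).1 (hl.dvd_of_dvd_pow h5)) hl2
      · exact h4.mul_right _
    · exact (h3.mul_right _).mul_left _
  rw [hw, ← pow_mul] at h2
  have h3 := (hl1 _).1 h2
  have h4 : 2 * m + 1 ∣ (2 * k + 1) * 4 := by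
    rcases he with rfl | rfl
    · exact h3
    · exact (dvd_mul_left _ _).trans h3
  have h5 : Nat.Coprime (2 * m + 1) 4 := by
    rw [show 4 = 2 ^ 2 by norm_num]
    exact Nat.Coprime.pow_right 2 (by rw [Nat.coprime_comm, Nat.prime_two.coprime_iff_not_dvd]; omega)
  have h6 := h5.dvd_of_dvd_mul_right h4
  have := Nat.le_of_dvd (by omega) h6
  omega

/-- **the Suzuki groups** are not covered by two classes of proper subgroups -/
theorem cov2_Sz (hm : 1 ≤ m) (hF : Fintype.card F = 2 ^ (2 * m + 1)) {H K : Subgroup (Cfsg.Sz F m)} (hH : H ≠ ⊤)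
    (hK : K ≠ ⊤) (hcov : ∀ g : Cfsg.Sz F m, ∃ x : Cfsg.Sz F m, x * g * x⁻¹ ∈ H ∨ x * g * x⁻¹ ∈ K) : False := by
  obtain ⟨q, r, hq, hr, h8, h2q, h2r, hrq, hrr⟩ := num_sz m hm
  have hfin : Finite (Cfsg.Sz F m) := inferInstance
  have hcardG := Cfsg.Agent.S0324.result hm hF
  rw [← hq] at hcardG
  have e2 : q ^ 2 + 1 = (q + r + 1) * (q - r + 1) := by
    zify [show r ≤ q by omega]
    have : (r : ℤ) * r = 2 * q := by exact_mod_cast hrr
    linear_combination this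
  obtain ⟨ρ, hρ, hρ1, hρ2, hρ3⟩ := Cfsg.Agent.Lib.Zsigmondy.exists_primitive (a := 2) (n := 4 * (2 * m + 1)) le_rfl
    (by omega) (by omega) (by omega)
  obtain ⟨s, hs, hs1, hs2, hs3⟩ := Cfsg.Agent.Lib.Zsigmondy.exists_primitive (a := 2) (n := 2 * m + 1) le_rfl
    (by omega) (by omega) (by omega)
  have hs_ne2 : s ≠ 2 := by rintro rfl; exact hs3 dvd_rfl
  have hρ_ne2 : ρ ≠ 2 := by rintro rfl; exact hρ3 dvd_rfl
  have hsq : s ∣ q - 1 := by rw [hq]; exact (hs1 _).2 dvd_rfl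
  have hρq1 : ¬ ρ ∣ q - 1 := by
    intro h
    rw [hq] at h
    have := (hρ1 _).1 h
    have := Nat.le_of_dvd (by omega) this
    omega
  have hρq : ρ ∣ q ^ 2 + 1 := by
    have h1 : ρ ∣ q ^ 4 - 1 := by
      rw [hq, ← pow_mul]
      exact (hρ1 _).2 (by rw [mul_comm])
    have h2 : q ^ 4 - 1 = (q ^ 2 + 1) * (q ^ 2 - 1) := by
      have : (q ^ 2) ^ 2 - 1 ^ 2 = (q ^ 2 + 1) * (q ^ 2 - 1) := Nat.sq_sub_sq _ _
      rw [← this, ← pow_mul, one_pow]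
    rw [h2] at h1
    refine (hρ.dvd_mul.1 h1).resolve_right fun h => ?_
    rw [hq, ← pow_mul] at h
    have := (hρ1 _).1 h
    have := Nat.le_of_dvd (by omega) this
    omega
  have hcop : ∀ l : ℕ, l.Prime → l ∣ q - 1 → l ∣ q ^ 2 + 1 → l = 2 := by
    intro l hl h1 h3
    have h4 : q ^ 2 + 1 = (q - 1) * (q + 1) + 2 := by
      obtain ⟨t, rfl⟩ : ∃ t, q = t + 1 := ⟨q - 1, by omega⟩
      rw [Nat.add_sub_cancel]; ring
    rw [h4] at h3
    exact (Nat.prime_dvd_prime_iff_eq hl Nat.prime_two).1 ((Nat.dvd_add_right (h1.mul_right _)).1 h3)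
  have hodd : ¬ 2 ∣ q ^ 2 + 1 := by
    have : 2 ∣ q ^ 2 := h2q.pow (by norm_num)
    omega
  -- the subgroup with `ρ`
  have hA : ∀ M : Subgroup (Cfsg.Sz F m), M ≠ ⊤ → ρ ∣ Nat.card M → ∃ a : ℕ, (a = q + r + 1 ∨ a = q - r + 1) ∧
      ∀ l : ℕ, l.Prime → l ≠ 2 → l ∣ Nat.card M → l ∣ a := by
    intro M hM hρM
    rcases Cfsg.Agent.S2251.result hm hF M hM with ⟨P0, hP0⟩ | ⟨U, hUc, hUk, hU⟩ | ⟨K, _, _, k, hk1, hkm, hK, hdiv, S, ⟨e⟩, hS⟩
    · have := sz_borel hm hF M P0 hP0 hρ hρ_ne2 hρM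
      rw [← hq] at this
      exact absurd this hρq1
    · have key : ∀ l : ℕ, l.Prime → l ≠ 2 → l ∣ Nat.card M → l ∣ Nat.card U := by
        intro l hl hl2 hd
        have : Fact l.Prime := ⟨hl⟩
        obtain ⟨x, hx⟩ := exists_prime_orderOf_dvd_card' (G := M) l hd
        have hxo : orderOf (x : Cfsg.Sz F m) = l := by rw [Subgroup.orderOf_coe, hx]
        have h1 := sz_normalizer hm hF U hUc hUk x (hU x.2) (by rw [hxo]; exact hl) (by rw [hxo]; exact hl2)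
        rwa [hxo] at h1
      rw [← hq, ← hr] at hUk
      rcases hUk with hUk | hUk | hUk
      · exact absurd (hUk ▸ key ρ hρ hρ_ne2 hρM) hρq1
      · exact ⟨_, Or.inl hUk, key⟩
      · exact ⟨_, Or.inr hUk, key⟩
    · exfalso
      have h1 : ρ ∣ Nat.card S := hρM.trans (Subgroup.card_dvd_of_le hS)
      rw [Nat.card_congr e.toEquiv] at h1
      exact sz_sub hk1 hkm hK hρ hρ_ne2 (Or.inr rfl) hρ1 h1
  -- the subgroup with `s`
  have hB : ∀ M : Subgroup (Cfsg.Sz F m), M ≠ ⊤ → s ∣ Nat.card M →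
      ∀ l : ℕ, l.Prime → l ≠ 2 → l ∣ Nat.card M → l ∣ q - 1 := by
    intro M hM hsM l hl hl2 hd
    rcases Cfsg.Agent.S2251.result hm hF M hM with ⟨P0, hP0⟩ | ⟨U, hUc, hUk, hU⟩ | ⟨K, _, _, k, hk1, hkm, hK, hdiv, S, ⟨e⟩, hS⟩
    · rw [hq]
      exact sz_borel hm hF M P0 hP0 hl hl2 hd
    · have key : ∀ l : ℕ, l.Prime → l ≠ 2 → l ∣ Nat.card M → l ∣ Nat.card U := by
        intro l hl hl2 hd
        have : Fact l.Prime := ⟨hl⟩
        obtain ⟨x, hx⟩ := exists_prime_orderOf_dvd_card' (G := M) l hd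
        have hxo : orderOf (x : Cfsg.Sz F m) = l := by rw [Subgroup.orderOf_coe, hx]
        have h1 := sz_normalizer hm hF U hUc hUk x (hU x.2) (by rw [hxo]; exact hl) (by rw [hxo]; exact hl2)
        rwa [hxo] at h1
      rw [← hq, ← hr] at hUk
      rcases hUk with hUk | hUk | hUk
      · rw [← hUk]
        exact key l hl hl2 hd
      · exfalso
        exact hs_ne2 (hcop s hs hsq (by rw [e2, ← hUk]; exact (key s hs hs_ne2 hsM).mul_right _))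
      · exfalso
        rw [Set.mem_singleton_iff] at hUk
        exact hs_ne2 (hcop s hs hsq (by rw [e2, ← hUk]; exact (key s hs hs_ne2 hsM).mul_left _))
    · exfalso
      have h1 : s ∣ Nat.card S := hsM.trans (Subgroup.card_dvd_of_le hS)
      rw [Nat.card_congr e.toEquiv] at h1
      exact sz_sub hk1 hkm hK hs hs_ne2 (Or.inl rfl) hs1 h1
  -- the final argument
  have main : ∀ H K : Subgroup (Cfsg.Sz F m), H ≠ ⊤ → K ≠ ⊤ → (∀ l : ℕ, l.Prime → l ∣ Nat.card (Cfsg.Sz F m) →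
      l ∣ Nat.card H ∨ l ∣ Nat.card K) → ρ ∣ Nat.card H → False := by
    intro H K hH hK hp hρH
    obtain ⟨a, ha, hall⟩ := hA H hH hρH
    have haq : a ∣ q ^ 2 + 1 := by
      rw [e2]
      rcases ha with rfl | rfl
      · exact dvd_mul_right _ _
      · exact dvd_mul_left _ _
    have hsH : ¬ s ∣ Nat.card H := fun h => hs_ne2 (hcop s hs hsq ((hall s hs hs_ne2 h).trans haq))
    have hsK : s ∣ Nat.card K := (hp s hs (by rw [hcardG]; exact hsq.mul_left _)).resolve_left hsH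
    have hallK := hB K hK hsK
    -- the other torus
    obtain ⟨b, hb, hb1⟩ : ∃ b, b * a = q ^ 2 + 1 ∧ (∀ l : ℕ, l.Prime → l ∣ b → l ∣ a → l = 2) ∧ b ≠ 1 := by
      have hcop2 : ∀ l : ℕ, l.Prime → l ∣ q + r + 1 → l ∣ q - r + 1 → l = 2 := by
        intro l hl h1 h2
        have h3 : l ∣ 2 * r := by
          have := Nat.dvd_sub h1 h2
          rwa [show q + r + 1 - (q - r + 1) = 2 * r by omega] at this
        rw [hr, ← pow_succ'] at h3
        exact (Nat.prime_dvd_prime_iff_eq hl Nat.prime_two).1 (hl.dvd_of_dvd_pow h3)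
      rcases ha with rfl | rfl
      · exact ⟨q - r + 1, by rw [e2, mul_comm], fun l hl h1 h2 => hcop2 l hl h2 h1, by omega⟩
      · exact ⟨q + r + 1, by rw [e2], fun l hl h1 h2 => hcop2 l hl h1 h2, by omega⟩
    obtain ⟨l, hl, hlb⟩ := Nat.exists_prime_and_dvd hb1.2
    have hlq : l ∣ q ^ 2 + 1 := by rw [← hb]; exact hlb.mul_right _
    have hl2 : l ≠ 2 := by
      rintro rfl
      exact hodd hlq
    rcases hp l hl (by rw [hcardG]; exact (hlq.mul_left _).mul_right _) with h1 | h1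
    · exact hl2 (hb1.1 l hl hlb (hall l hl hl2 h1))
    · exact hl2 (hcop l hl (hallK l hl hl2 h1) hlq)
  have hp : ∀ l : ℕ, l.Prime → l ∣ Nat.card (Cfsg.Sz F m) → l ∣ Nat.card H ∨ l ∣ Nat.card K :=
    fun l hl hd => prime_dvd hcov hl hd
  rcases hp ρ hρ (by rw [hcardG]; exact (hρq.mul_left _).mul_right _) with h1 | h1
  · exact main H K hH hK hp h1
  · exact main K H hK hH (fun l hl hd => (hp l hl hd).symm) h1

/-- transfer -/
theorem cov2_congr {G G' : Type*} [Group G] [Group G'] (e : G ≃* G')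
    (h : ∀ H K : Subgroup G', H ≠ ⊤ → K ≠ ⊤ → (∀ g : G', ∃ x : G', x * g * x⁻¹ ∈ H ∨ x * g * x⁻¹ ∈ K) → False)
    {H K : Subgroup G} (hH : H ≠ ⊤) (hK : K ≠ ⊤)
    (hcov : ∀ g : G, ∃ x : G, x * g * x⁻¹ ∈ H ∨ x * g * x⁻¹ ∈ K) : False := by
  have ht : ∀ M : Subgroup G, M ≠ ⊤ → M.map e.toMonoidHom ≠ ⊤ := by
    intro M hM h1
    apply hM
    rw [eq_top_iff]
    intro x _
    have h2 : e x ∈ M.map e.toMonoidHom := by rw [h1]; exact mem_top _
    obtain ⟨y, hy, hxy⟩ := h2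
    rwa [← e.injective hxy]
  refine h (H.map e.toMonoidHom) (K.map e.toMonoidHom) (ht H hH) (ht K hK) fun g => ?_
  obtain ⟨x, hx⟩ := hcov (e.symm g)
  have h1 : e (x * e.symm g * x⁻¹) = e x * g * (e x)⁻¹ := by simp
  refine ⟨e x, ?_⟩
  rcases hx with hx | hx
  · left; exact ⟨_, hx, h1⟩
  · right; exact ⟨_, hx, h1⟩

theorem cov2_sz {T : Type*} [Group T] (h : Cfsg.Lie.IsoSuzuki T) {H K : Subgroup T} (hH : H ≠ ⊤) (hK : K ≠ ⊤)
    (hcov : ∀ g : T, ∃ x : T, x * g * x⁻¹ ∈ H ∨ x * g * x⁻¹ ∈ K) : False := by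
  obtain ⟨F, iF, iF', m, hm, hF, ⟨e⟩⟩ := h
  obtain ⟨f⟩ := Cfsg.Agent.OddCyclic.ClaimC.SzIso.iso hm hF
  exact cov2_congr (f.trans e.symm).symm (fun H K hH hK hcov => cov2_Sz hm hF hH hK hcov) hH hK hcov

theorem noTwo_of_cov2 {G : Type*} [Group G]
    (h : ∀ H K : Subgroup G, H ≠ ⊤ → K ≠ ⊤ → (∀ g : G, ∃ x : G, x * g * x⁻¹ ∈ H ∨ x * g * x⁻¹ ∈ K) → False) :
    Cfsg.Agent.H278.Cov.NoTwo G := by
  intro H K hH hK
  by_contra hcon
  push Not at hcon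
  refine h H K hH hK fun g => ?_
  by_cases h1 : Cfsg.Agent.H278.Cov.Av g H
  · have h2 := hcon g h1
    obtain ⟨x, hx⟩ := Cfsg.Agent.H278.Cov.not_av h2
    exact ⟨x, Or.inr hx⟩
  · obtain ⟨x, hx⟩ := Cfsg.Agent.H278.Cov.not_av h1
    exact ⟨x, Or.inl hx⟩

theorem cov2_of_noTwo {G : Type*} [Group G] (h : Cfsg.Agent.H278.Cov.NoTwo G) {H K : Subgroup G} (hH : H ≠ ⊤)
    (hK : K ≠ ⊤) (hcov : ∀ g : G, ∃ x : G, x * g * x⁻¹ ∈ H ∨ x * g * x⁻¹ ∈ K) : False := by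
  obtain ⟨g, h1, h2⟩ := h H K hH hK
  obtain ⟨x, hx | hx⟩ := hcov g
  · exact h1 x hx
  · exact h2 x hx

/-- **the Suzuki row of S2499** -/
theorem noTwo_sz {T : Type*} [Group T] (h : Cfsg.Lie.IsoSuzuki T) : Cfsg.Agent.H278.Cov.NoTwo T :=
  noTwo_of_cov2 fun _ _ hH hK hcov => cov2_sz h hH hK hcov

end Cfsg.Agent.H947.Cv
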