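import Cfsg.Agent.H947.Cv.Psu3B
import Cfsg.Agent.H947.Cv.Sz

/-!
# No covering by two classes of proper subgroups (helper947, for S2499): `PSU₃(q)`, `q ≠ 5` not a power of `3`

`noTwo_psu3`
-/

set_option autoImplicit false
set_option linter.style.haveILetI false
set_option linter.unusedSectionVars false

namespace Cfsg.Agent.H947.Cv

open Subgroup Cfsg Cfsg.Geo Cfsg.Agent.H947.Sq Module Cfsg.Agent.H918 Cfsg.Agent.H907.Mx Cfsg.Agent.H947.El
  Cfsg.Agent.H947.Cyc Cfsg.Agent.H278.Cov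
open Cfsg.Agent.LieClassical.HermSiegel Cfsg.Agent.LieClassical.HermBasic
open scoped MatrixGroups Matrix

theorem small {N K : ℤ} (_hN : 0 < N) (h : N ∣ K) : K ≤ -N ∨ K = 0 ∨ N ≤ K := by
  rcases lt_trichotomy K 0 with h1 | h1 | h1
  · left
    have := Int.le_of_dvd (by omega : 0 < -K) ((dvd_neg).2 h)
    omega
  · exact Or.inr (Or.inl h1)
  · exact Or.inr (Or.inr (Int.le_of_dvd h1 h))

theorem arith5 {q0 l : ℕ} (hq0 : 2 ≤ q0) (hl : 3 ≤ l) (hlo : Odd l) {N : ℤ} (hN : N = (q0 ^ l + 1 : ℕ)) {a0 a1 a2 : ℤ}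
    (ha0 : a0 = 1 ∨ a0 = 2 ∨ a0 = -3) (ha1 : a1 = 1 ∨ a1 = 2 ∨ a1 = -3) (ha2 : a2 = 1 ∨ a2 = 2 ∨ a2 = -3)
    (h1 : N ∣ (a1 - a0) - 1 * (q0 ^ 2 : ℕ)) (h2 : N ∣ (a2 - a0) - (-4) * (q0 ^ 2 : ℕ)) : False := by
  rcases Nat.lt_or_ge q0 3 with h3 | h3
  · have h4 : q0 = 2 := by omega
    rw [h4] at h2 hN
    have h5 : l = 3 ∨ 5 ≤ l := by
      rcases hlo with ⟨k, hk⟩
      omega
    rcases h5 with h5 | h5
    · rw [h5] at hN
      norm_num at hN
      rw [hN] at h2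
      push_cast at h2
      rcases ha0 with rfl | rfl | rfl <;> rcases ha2 with rfl | rfl | rfl <;> omega
    · have h6 : (2 : ℕ) ^ 5 ≤ 2 ^ l := Nat.pow_le_pow_right (by norm_num) h5
      have hN33 : 33 ≤ N := by
        rw [hN]
        have : 33 ≤ 2 ^ l + 1 := by omega
        exact_mod_cast this
      have h7 := small (by omega) h2
      push_cast at h7
      omega
  · have h4 : q0 ^ 3 ≤ q0 ^ l := Nat.pow_le_pow_right (by omega) hl
    have h5 : 3 * q0 ^ 2 ≤ q0 ^ 3 := by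
      rw [pow_succ q0 2, mul_comm]
      exact Nat.mul_le_mul_left _ h3
    have h6 : 9 ≤ q0 ^ 2 := by nlinarith
    have h7 := small (by rw [hN]; positivity) h1
    obtain ⟨t, ht⟩ : ∃ t, t = q0 ^ 2 := ⟨_, rfl⟩
    rw [← ht] at h5 h6 h7
    push_cast at h7 hN
    have h8 : (3 * (t : ℤ)) + 1 ≤ N := by
      rw [hN]
      have : 3 * t ≤ q0 ^ l := h5.trans h4
      have : (3 * (t : ℤ)) ≤ (q0 : ℤ) ^ l := by exact_mod_cast this
      omega
    omega

theorem arith6 {q : ℕ} (hq : 7 ≤ q) (hqo : Odd q) {a0 a1 a2 : ℤ}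
    (ha0 : a0 = 1 ∨ a0 = 2 ∨ a0 = -3) (ha1 : a1 = 1 ∨ a1 = 2 ∨ a1 = -3) (ha2 : a2 = 1 ∨ a2 = 2 ∨ a2 = -3)
    (h1 : ((q + 1 : ℕ) : ℤ) ∣ (a1 - a0) - 1 * (q : ℕ)) (h2 : ((q + 1 : ℕ) : ℤ) ∣ (a2 - a0) - (-4) * (q : ℕ)) :
    False := by
  have h3 : ((q + 1 : ℕ) : ℤ) ∣ (a1 - a0) + 1 := by
    have : (a1 - a0) + 1 = (a1 - a0) - 1 * (q : ℕ) + ((q + 1 : ℕ) : ℤ) := by push_cast; ring
    rw [this]
    exact dvd_add h1 dvd_rfl
  have h4 : ((q + 1 : ℕ) : ℤ) ∣ (a2 - a0) - 4 := by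
    have : (a2 - a0) - 4 = (a2 - a0) - (-4) * (q : ℕ) - 4 * ((q + 1 : ℕ) : ℤ) := by push_cast; ring
    rw [this]
    exact dvd_sub h2 (dvd_mul_left _ _)
  obtain ⟨k, hk⟩ := hqo
  have h5 : q = 7 ∨ 9 ≤ q := by omega
  rcases h5 with rfl | h5
  · norm_num at h3 h4
    rcases ha0 with rfl | rfl | rfl <;> rcases ha1 with rfl | rfl | rfl <;> rcases ha2 with rfl | rfl | rfl <;> omega
  · have h6 := small (by positivity) h3
    have h7 := small (by positivity) h4
    push_cast at h6 h7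
    omega

section

variable {F : Type*} [Field F] [Fintype F] {q : ℕ}

/-- **`b` and `c` are incompatible** -/
theorem bc_false (hF : Fintype.card F = q ^ 2) (hq : 4 ≤ q) (hq5 : q ≠ 5) {p n : ℕ} [hp : Fact p.Prime] (hp3 : p ≠ 3)
    [CharP F p] (hqp : q = p ^ n) {H : Subgroup (GL (Fin 3) F)} (hH : IsMaximalIn (SUg 3 F q) H) {b : SU 3 F q}
    {e w f : Fin 3 → F} (R : Reg F q b e w f) {z : Fˣ} (hz : orderOf z = q + 1) {x : Fin 3 → ℤ} (E : Ex (q + 1) x)
    (hx : q = 4 ∨ (7 ≤ q ∧ x 0 = 1 ∧ x 1 = 2 ∧ x 2 = -3)) {g1 g2 : GL (Fin 3) F} (hg1 : g1 ∈ SUg 3 F q)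
    (hg2 : g2 ∈ SUg 3 F q) (hb : g1 * suHom 3 F q b * g1⁻¹ ∈ H)
    (hc : g2 * suHom 3 F q (dg z hz x E.sum) * g2⁻¹ ∈ H) : False := by
  have hn0 : n ≠ 0 := by
    rintro rfl
    rw [pow_zero] at hqp
    omega
  have hpq : p ∣ q := by rw [hqp]; exact dvd_pow_self p hn0
  have hpp := hp.out
  -- the order of `b`
  have hpH : p ∣ Nat.card H := by
    have h1 : orderOf (⟨_, hb⟩ : H) ∣ Nat.card H := orderOf_dvd_natCard _
    rw [Subgroup.orderOf_mk] at h1
    refine dvd_trans ?_ h1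
    have h2 : (g1 * suHom 3 F q b * g1⁻¹) ^ (p ^ 2) = 1 := by
      rw [conj_pow_suHom, R.pow2 hF, map_one, mul_one, mul_inv_cancel]
    obtain ⟨k, hk, hk2⟩ := (Nat.dvd_prime_pow hpp).1 (orderOf_dvd_of_pow_eq_one h2)
    rw [hk2]
    refine dvd_pow_self p ?_
    rintro rfl
    rw [pow_zero, orderOf_eq_one_iff] at hk2
    have h3 : suHom 3 F q b = 1 := by
      calc suHom 3 F q b = g1⁻¹ * (g1 * suHom 3 F q b * g1⁻¹) * g1 := by group
        _ = 1 := by rw [hk2]; group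
    exact R.ne_one hF (suHom_injective (by rw [h3, map_one]))
  -- the order of subfields
  have hsub : ∀ (F₀ : Subfield F) (l : ℕ), Fintype.card F = Nat.card F₀ ^ l → 0 < l → ∃ k, Nat.card F₀ = p ^ k ∧ 2 * n = k * l := by
    intro F₀ l hc hl0
    obtain ⟨s, hs⟩ : ∃ s, Nat.card F₀ = s := ⟨_, rfl⟩
    rw [hs, hF, hqp, ← pow_mul] at hc
    have h5 : s ∣ p ^ (n * 2) := by rw [hc]; exact dvd_pow_self s (by omega)
    obtain ⟨k, -, hk⟩ := (Nat.dvd_prime_pow hpp).1 h5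
    refine ⟨k, hs.trans hk, ?_⟩
    rw [hk, ← pow_mul] at hc
    have : n * 2 = k * l := Nat.pow_right_injective hpp.two_le hc
    omega
  have he3 : 7 ≤ q ∧ x 0 = 1 ∧ x 1 = 2 ∧ x 2 = -3 → ∀ i, x i = 1 ∨ x i = 2 ∨ x i = -3 := by
    rintro ⟨-, h0, h1, h2⟩ i
    fin_cases i
    · exact Or.inl h0
    · exact Or.inr (Or.inl h1)
    · exact Or.inr (Or.inr h2)
  rcases Cfsg.Agent.S5778.result q hF (by omega) H hH with ⟨W, hW0, hWs, he⟩ | ⟨W, hW0, hWn, hW3, he⟩ |
    ⟨-, D, hD, he⟩ | ⟨h3, h5, K, hK, hKa, he⟩ | ⟨F₀, l, P, hl, hlo, hcard, -, he⟩ | ⟨hqo, hq7, F₀, P, hcard, -, he⟩ |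
    ⟨p', R', hp', hqp', -, h11, -, hirr, -, h27, h3, he⟩ | hres
  · rw [he] at hc
    exact E.no_iso hz hF hg2 hW0 hWs hc.1
  · rw [he] at hb
    exact R.no_line hF hg1 hW0 hWn hW3 hb.1
  · rw [he] at hb
    exact R.no_dec hF hp3 hD.decomp hb.1
  · have hord : Nat.card H ∣ 3 * (q ^ 2 - q + 1) :=
      card_field hF hK hKa (he.le.trans inf_le_left) (he.le.trans inf_le_right)
    rcases hpp.dvd_mul.1 (hpH.trans hord) with h6 | h6
    · exact hp3 ((Nat.prime_dvd_prime_iff_eq hpp Nat.prime_three).1 h6)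
    · have h7 : q ^ 2 - q = (q - 1) * q := by rw [Nat.sub_mul, one_mul, pow_two]
      rw [h7] at h6
      exact hpp.one_lt.ne' (Nat.dvd_one.1 ((Nat.dvd_add_right (hpq.mul_left _)).1 h6))
  · rw [he] at hc
    obtain ⟨k, hk, hkl⟩ := hsub F₀ l hcard hl.pos
    obtain ⟨t, ht⟩ := hlo
    have hl3 : 3 ≤ l := by
      have := hl.two_le
      omega
    have hcop : Nat.Coprime 2 l := by
      rw [Nat.prime_two.coprime_iff_not_dvd]; omega
    have hk2 : 2 ∣ k := hcop.dvd_of_dvd_mul_right ⟨n, hkl.symm⟩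
    obtain ⟨k', rfl⟩ := hk2
    have hnk : n = k' * l := by
      have : 2 * n = 2 * (k' * l) := by rw [hkl]; ring
      omega
    have hk'0 : k' ≠ 0 := by
      rintro rfl
      rw [zero_mul] at hnk
      exact hn0 hnk
    rcases hx with hq4 | hx
    · have h6 : p ^ n = 2 ^ 2 := by rw [← hqp, hq4]; norm_num
      have h7 : p = 2 := by
        have : p ∣ 2 ^ 2 := h6 ▸ dvd_pow_self p hn0
        exact (Nat.prime_dvd_prime_iff_eq hpp Nat.prime_two).1 (hpp.dvd_of_dvd_pow this)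
      rw [h7] at h6
      have h8 : n = 2 := Nat.pow_right_injective le_rfl h6
      have : 1 * 3 ≤ k' * l := Nat.mul_le_mul (by omega) hl3
      omega
    · obtain ⟨j, hj⟩ := dg_congr hz E.sum hc.1 hk
      have e3 := he3 hx
      have h1 := hj 1
      have h2 := hj 2
      rw [show x 1 - x 0 = 1 by rw [hx.2.1, hx.2.2.1]; norm_num] at h1
      rw [show x 2 - x 0 = -4 by rw [hx.2.1, hx.2.2.2]; norm_num] at h2
      have h5 : p ^ (2 * k') = (p ^ k') ^ 2 := by rw [← pow_mul, mul_comm]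
      rw [h5] at h1 h2
      refine arith5 (q0 := p ^ k') (l := l) (hpp.two_le.trans (Nat.le_self_pow hk'0 p)) hl3 ⟨t, ht⟩
        (N := ((q + 1 : ℕ) : ℤ)) (by rw [hqp, hnk, pow_mul]) (e3 (j 0)) (e3 (j 1)) (e3 (j 2)) h1 h2
  · rw [he] at hc
    obtain ⟨k, hk, hkl⟩ := hsub F₀ 2 hcard (by norm_num)
    have hkn : k = n := by omega
    rcases hx with hq4 | hx
    · omega
    · obtain ⟨j, hj⟩ := dg_congr hz E.sum hc.1 hk
      have e3 := he3 hx
      have h1 := hj 1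
      have h2 := hj 2
      rw [show x 1 - x 0 = 1 by rw [hx.2.1, hx.2.2.1]; norm_num] at h1
      rw [show x 2 - x 0 = -4 by rw [hx.2.1, hx.2.2.2]; norm_num] at h2
      rw [hkn, ← hqp] at h1 h2
      exact arith6 hq7 hqo (e3 (j 0)) (e3 (j 1)) (e3 (j 2)) h1 h2
  · rw [he] at hb
    have hpp' : p = p' := by
      have h6 : p ∣ p' := by rw [← hqp']; exact hpq
      exact (Nat.prime_dvd_prime_iff_eq hpp hp').1 h6
    have h7 : (g1 * suHom 3 F q b * g1⁻¹) ^ p = 1 := by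
      have h8 : b ^ p ^ 1 = 1 := R.pow hF (p := p) (k := 1) (by rw [pow_one]; omega)
      rw [pow_one] at h8
      rw [conj_pow_suHom, h8, map_one, mul_one, mul_inv_cancel]
    exact R.no_scalar hF (symp_prime hirr h27 h3 hb.1 hpp (by omega) h7)
  · obtain ⟨P, hP, hqpr, hcases⟩ := Cfsg.Agent.S5779.result q hF (by omega) H hH hres
    have hHS : H ≤ SUg 3 F q := hH.1.le
    have hqp' : p = q := (Nat.prime_dvd_prime_iff_eq hpp hqpr).1 hpq
    have hp7 : 7 ≤ p := by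
      rw [hqp']
      by_contra hcon
      have : q = 4 ∨ q = 6 := by omega
      rcases this with h6 | h6 <;> rw [h6] at hqpr <;> revert hqpr <;> decide
    rcases hcases with ⟨⟨e'⟩, -, hq7⟩ | ⟨⟨e'⟩, -⟩ | ⟨-, h5⟩
    · have h1008 : Nat.card H ∣ 1008 := card_dvd_l32 hP hHS ⟨e'⟩
      have h2 : p ∣ 2 ^ 4 * 3 ^ 2 * 7 := by norm_num; exact hpH.trans h1008
      rcases hpp.dvd_mul.1 h2 with h3 | h3
      · rcases hpp.dvd_mul.1 h3 with h4 | h4
        · have := Nat.le_of_dvd (by norm_num) (hpp.dvd_of_dvd_pow h4); omega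
        · have := Nat.le_of_dvd (by norm_num) (hpp.dvd_of_dvd_pow h4); omega
      · have := (Nat.prime_dvd_prime_iff_eq hpp (by norm_num)).1 h3
        omega
    · have h4320 : Nat.card H ∣ 4320 := card_dvd_a6 hP hHS ⟨e'⟩
      have h2 : p ∣ 2 ^ 5 * 3 ^ 3 * 5 := by norm_num; exact hpH.trans h4320
      rcases hpp.dvd_mul.1 h2 with h3 | h3
      · rcases hpp.dvd_mul.1 h3 with h4 | h4
        · have := Nat.le_of_dvd (by norm_num) (hpp.dvd_of_dvd_pow h4); omega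
        · have := Nat.le_of_dvd (by norm_num) (hpp.dvd_of_dvd_pow h4); omega
      · have := Nat.le_of_dvd (by norm_num) h3; omega
    · exact hq5 h5

/-- maximal subgroups with the torus elements -/
theorem tor_of (hF : Fintype.card F = q ^ 2) (hq : 4 ≤ q) (hq5 : q ≠ 5) {p n r : ℕ} (h : PN F p n q r)
    {M : Subgroup (PSU 3 F q)} (hM : IsCoatom M) (hrM : r ∣ Nat.card M) (h7 : r = 7 → 49 ∣ Nat.card M) :
    Nat.gcd 3 (q + 1) * Nat.card M ∣ 3 * (q ^ 2 - q + 1) := by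
  have hfin : Finite (PSU 3 F q) := Quotient.finite _
  have hge := h.ge
  have hn := h.n0
  have hfr : Fact r.Prime := ⟨h.pr⟩
  set π := QuotientGroup.mk' (Subgroup.center (Cfsg.SU 3 F q)) with hπ
  have hπs : Function.Surjective π := QuotientGroup.mk'_surjective _
  set ι := suHom 3 F q with hι
  have hιi : Function.Injective ι := suHom_injective
  set H := (M.comap π).map ι with hHd
  have hH : IsMaximalIn (SUg 3 F q) H := by
    have := isMaximalIn_of_coatom π hπs ι hιi hM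
    rwa [range_suHom] at this
  have hcH : Nat.card H = Nat.gcd 3 (q + 1) * Nat.card M := by
    rw [hHd, Subgroup.card_map_of_injective hιi, hπ, card_comap_pi hF]
  have hfinS : Finite (Cfsg.SU 3 F q) := inferInstance
  have hrH : r ∣ Nat.card H := by rw [hcH]; exact hrM.mul_left _
  obtain ⟨x, hx⟩ := exists_prime_orderOf_dvd_card' (G := H) r hrH
  have hxo : orderOf (x : GL (Fin 3) F) = r := by rw [Subgroup.orderOf_coe, hx]
  rcases geom_cases hF (by omega) h hH x.2 (by rw [← hxo]; exact pow_orderOf_eq_one _)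
    (by intro h1; rw [h1, orderOf_one] at hxo; exact h.pr.one_lt.ne hxo) with hres | ⟨hq3, hq5, K, hK, hKa, he⟩
  · exfalso
    obtain ⟨P, hP, hqp, hcases⟩ := Cfsg.Agent.S5779.result q hF (by omega) H hH hres
    have hHS : H ≤ SUg 3 F q := hH.1.le
    rcases hcases with ⟨⟨e⟩, -, -⟩ | ⟨⟨e⟩, -⟩ | ⟨-, h5⟩
    · have h1008 : Nat.card H ∣ 1008 := card_dvd_l32 hP hHS ⟨e⟩
      have h2 : r ∣ 2 ^ 4 * 3 ^ 2 * 7 := by norm_num; exact hrH.trans h1008
      rcases h.pr.dvd_mul.1 h2 with h3 | h3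
      · rcases h.pr.dvd_mul.1 h3 with h4 | h4
        · have := Nat.le_of_dvd (by norm_num) (h.pr.dvd_of_dvd_pow h4); omega
        · have := Nat.le_of_dvd (by norm_num) (h.pr.dvd_of_dvd_pow h4); omega
      · have h4 := h7 ((Nat.prime_dvd_prime_iff_eq h.pr (by norm_num)).1 h3)
        have h5 : 49 ∣ 1008 := (h4.mul_left _).trans (hcH ▸ h1008)
        revert h5; norm_num
    · have h4320 : Nat.card H ∣ 4320 := card_dvd_a6 hP hHS ⟨e⟩
      have h2 : r ∣ 2 ^ 5 * 3 ^ 3 * 5 := by norm_num; exact hrH.trans h4320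
      rcases h.pr.dvd_mul.1 h2 with h3 | h3
      · rcases h.pr.dvd_mul.1 h3 with h4 | h4
        · have := Nat.le_of_dvd (by norm_num) (h.pr.dvd_of_dvd_pow h4); omega
        · have := Nat.le_of_dvd (by norm_num) (h.pr.dvd_of_dvd_pow h4); omega
      · have := Nat.le_of_dvd (by norm_num) h3; omega
    · exact hq5 h5
  · rw [← hcH]
    exact card_field hF hK hKa (he.le.trans inf_le_left) (he.le.trans inf_le_right)

/-- another primitive prime -/
theorem exists_PN7 (hF : Fintype.card F = q ^ 2) (hq : 4 ≤ q) (hq5 : q ≠ 5) :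
    ∃ p n r, PN F p n q r ∧ CharP F p ∧ (r = 7 → 49 ∣ q ^ 2 - q + 1) := by
  obtain ⟨p, n, r, h, hchar⟩ := exists_PN hF (by omega)
  by_cases hr7 : r = 7
  swap
  · exact ⟨p, n, r, h, hchar, fun h7 => absurd h7 hr7⟩
  by_cases h49 : 49 ∣ q ^ 2 - q + 1
  · exact ⟨p, n, r, h, hchar, fun _ => h49⟩
  have hn1 : n = 1 := by
    have h1 := h.dv
    rw [hr7] at h1
    have := Nat.le_of_dvd (by norm_num) h1
    have := h.n0
    omega
  have hqp : q = p := by rw [h.qp, hn1, pow_one]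
  obtain ⟨N, hN⟩ : ∃ N, q ^ 2 - q + 1 = N := ⟨_, rfl⟩
  have hN0 : 13 ≤ N := by
    have h1 : q ^ 2 - q = (q - 1) * q := by rw [Nat.sub_mul, one_mul, pow_two]
    rw [← hN, h1]
    have : 3 * 4 ≤ (q - 1) * q := Nat.mul_le_mul (by omega) hq
    omega
  have hNz : (N : ℤ) = (q : ℤ) ^ 2 - q + 1 := by
    rw [← hN]
    push_cast [Nat.cast_sub (Nat.le_self_pow (by norm_num : 2 ≠ 0) q)]
    ring
  have h9 : ¬ 9 ∣ N := by
    intro h1
    have h2 : (9 : ℤ) ∣ (q : ℤ) ^ 2 - q + 1 := by rw [← hNz]; exact_mod_cast h1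
    have h3 : ((((q : ℤ) ^ 2 - q + 1 : ℤ)) : ZMod 9) = 0 := (ZMod.intCast_zmod_eq_zero_iff_dvd _ 9).2 h2
    push_cast at h3
    have key : ∀ x : ZMod 9, x ^ 2 - x + 1 ≠ 0 := by decide
    exact key _ h3
  have h2N : ¬ 2 ∣ N := by
    intro h1
    have h2 : (2 : ℤ) ∣ (q : ℤ) ^ 2 - q + 1 := by rw [← hNz]; exact_mod_cast h1
    have h3 : ((((q : ℤ) ^ 2 - q + 1 : ℤ)) : ZMod 2) = 0 := (ZMod.intCast_zmod_eq_zero_iff_dvd _ 2).2 h2
    push_cast at h3
    have key : ∀ x : ZMod 2, x ^ 2 - x + 1 ≠ 0 := by decide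
    exact key _ h3
  rw [hN] at h49
  -- another prime
  obtain ⟨l, hl, hlN, hl3, hl7⟩ : ∃ l : ℕ, l.Prime ∧ l ∣ N ∧ l ≠ 3 ∧ l ≠ 7 := by
    obtain ⟨N1, hN1, hN3⟩ : ∃ N1, (N = N1 ∨ N = 3 * N1) ∧ ¬ 3 ∣ N1 := by
      by_cases h3 : 3 ∣ N
      · obtain ⟨N1, hN1⟩ := h3
        refine ⟨N1, Or.inr hN1, fun ⟨t, ht⟩ => h9 ⟨t, by rw [hN1, ht]; ring⟩⟩
      · exact ⟨N, Or.inl rfl, h3⟩
    obtain ⟨N2, hN2, hN7⟩ : ∃ N2, (N1 = N2 ∨ N1 = 7 * N2) ∧ ¬ 7 ∣ N2 := by
      by_cases h7 : 7 ∣ N1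
      · obtain ⟨N2, hN2⟩ := h7
        refine ⟨N2, Or.inr hN2, fun ⟨t, ht⟩ => h49 ?_⟩
        rcases hN1 with h1 | h1
        · exact ⟨t, by rw [h1, hN2, ht]; ring⟩
        · exact ⟨3 * t, by rw [h1, hN2, ht]; ring⟩
      · exact ⟨N1, Or.inl rfl, h7⟩
    have hN21 : N2 ≠ 1 := by
      rintro rfl
      have h21 : N ≤ 21 := by omega
      have h1 : q ≤ 5 := by
        by_contra hcon
        have h1 : q ^ 2 - q = (q - 1) * q := by rw [Nat.sub_mul, one_mul, pow_two]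
        have : 5 * 6 ≤ (q - 1) * q := Nat.mul_le_mul (by omega) (by omega)
        omega
      have h2 : q = 4 := by omega
      rw [h2] at hN
      norm_num at hN
      omega
    obtain ⟨l, hl, hld⟩ := Nat.exists_prime_and_dvd hN21
    refine ⟨l, hl, ?_, ?_, ?_⟩
    · have h1 : l ∣ N1 := by
        rcases hN2 with h1 | h1
        · rw [h1]; exact hld
        · rw [h1]; exact hld.mul_left _
      rcases hN1 with h2 | h2
      · rw [h2]; exact h1
      · rw [h2]; exact h1.mul_left _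
    · rintro rfl
      apply hN3
      rcases hN2 with h1 | h1
      · rw [h1]; exact hld
      · rw [h1]; exact hld.mul_left _
    · rintro rfl
      exact hN7 hld
  have hfl : Fact l.Prime := ⟨hl⟩
  have hl2 : l ≠ 2 := by rintro rfl; exact h2N hlN
  have hz : ((p : ℕ) : ZMod l) ^ 2 - ((p : ℕ) : ZMod l) + 1 = 0 := by
    have h2 : (l : ℤ) ∣ (q : ℤ) ^ 2 - q + 1 := by rw [← hNz]; exact_mod_cast hlN
    have h3 : ((((q : ℤ) ^ 2 - q + 1 : ℤ)) : ZMod l) = 0 := (ZMod.intCast_zmod_eq_zero_iff_dvd _ l).2 h2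
    rw [hqp] at h3
    push_cast at h3
    exact h3
  have hne : ∀ k : ℕ, k.Prime → l ≠ k → ((k : ℕ) : ZMod l) ≠ 0 := by
    intro k hk hlk h1
    rw [ZMod.natCast_eq_zero_iff] at h1
    exact hlk ((Nat.prime_dvd_prime_iff_eq hl hk).1 h1)
  have h2z : (2 : ZMod l) ≠ 0 := by exact_mod_cast hne 2 Nat.prime_two hl2
  have h3z : (3 : ZMod l) ≠ 0 := by exact_mod_cast hne 3 Nat.prime_three hl3
  have hord : orderOf ((p : ℕ) : ZMod l) = 6 := by
    apply orderOf_eq_of_pow_and_pow_div_prime (by norm_num)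
    · linear_combination (((p : ℕ) : ZMod l) ^ 4 + ((p : ℕ) : ZMod l) ^ 3 - ((p : ℕ) : ZMod l) - 1) * hz
    · intro k hk hk6
      have hk' : k = 2 ∨ k = 3 := by
        have h6 : k ∣ 2 * 3 := hk6
        rcases hk.dvd_mul.1 h6 with h1 | h1
        · exact Or.inl ((Nat.prime_dvd_prime_iff_eq hk Nat.prime_two).1 h1)
        · exact Or.inr ((Nat.prime_dvd_prime_iff_eq hk Nat.prime_three).1 h1)
      rcases hk' with rfl | rfl
      · rw [show 6 / 2 = 3 from rfl]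
        intro h1
        apply h2z
        linear_combination (((p : ℕ) : ZMod l) + 1) * hz - h1
      · rw [show 6 / 3 = 2 from rfl]
        intro h1
        have h2 : ((p : ℕ) : ZMod l) = 2 := by linear_combination h1 - hz
        rw [h2] at h1
        apply h3z
        linear_combination h1
  have hiff : ∀ j, l ∣ p ^ j - 1 ↔ 6 * 1 ∣ j := by
    intro j
    rw [mul_one, ← hord, orderOf_dvd_iff_pow_eq_one]
    have h1 : 1 ≤ p ^ j := Nat.one_le_pow _ _ h.pp.pos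
    rw [← Nat.cast_one (R := ZMod l), ← Nat.cast_pow, ZMod.natCast_eq_natCast_iff, Nat.ModEq.comm, Nat.modEq_iff_dvd' h1]
  have hp0 : ((p : ℕ) : ZMod l) ≠ 0 := by
    intro h1
    rw [h1] at hz
    norm_num at hz
  refine ⟨p, 1, l, ⟨h.pp, one_pos, by rw [hqp, pow_one], by rw [h.cF, hn1], hl, hiff, ?_, ?_⟩, hchar,
    fun h7 => absurd h7 hl7⟩
  · rw [mul_one, ← hord]
    exact ZMod.orderOf_dvd_card_sub_one hp0
  · intro h1
    exact hp0 ((ZMod.natCast_eq_zero_iff _ _).2 h1)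

/-- a generator of a Sylow `r`-subgroup -/
theorem exists_a (hF : Fintype.card F = q ^ 2) {p n r : ℕ} (h : PN F p n q r) (h7 : r = 7 → 49 ∣ q ^ 2 - q + 1) :
    ∃ a : PSU 3 F q, r ∣ orderOf a ∧ (r = 7 → 49 ∣ orderOf a) := by
  have : Fact r.Prime := ⟨h.pr⟩
  have hfin : Finite (PSU 3 F q) := Quotient.finite _
  have hfinS : Finite (SU 3 F q) := inferInstance
  obtain ⟨P⟩ : Nonempty (Sylow r (PSU 3 F q)) := inferInstance
  have hs : Function.Surjective (QuotientGroup.mk' (center (SU 3 F q))) := QuotientGroup.mk'_surjective _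
  obtain ⟨Q, hQ⟩ := Sylow.mapSurjective_surjective hs r P
  have hc := syl_r h Q
  have hPc : IsCyclic P := by
    rw [← hQ, Sylow.coe_mapSurjective]
    exact isCyclic_of_surjective _ ((QuotientGroup.mk' (center (SU 3 F q))).subgroupMap_surjective Q)
  obtain ⟨g, hg⟩ := IsCyclic.exists_generator (α := P)
  have hog : orderOf (g : PSU 3 F q) = Nat.card P := by
    rw [Subgroup.orderOf_coe, orderOf_eq_card_of_forall_mem_zpowers hg]
  have hpow : ∀ k, r ^ k ∣ Nat.card (PSU 3 F q) → r ^ k ∣ orderOf (g : PSU 3 F q) := by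
    intro k hk
    rw [hog, P.card_eq_multiplicity]
    exact pow_dvd_pow _ ((h.pr.pow_dvd_iff_le_factorization Nat.card_pos.ne').1 hk)
  refine ⟨g, ?_, fun hr7 => ?_⟩
  · have := hpow 1 (by rw [pow_one]; exact (psu3_orders hF h).1)
    rwa [pow_one] at this
  · have h49 := h7 hr7
    have h1 := hpow 2 (by
      rw [hr7]
      have h2 := Cfsg.Agent.H394.SqPsu3.card_psu3 hF
      have hcube : q ^ 3 + 1 = (q + 1) * (q ^ 2 - q + 1) := by
        zify [Nat.le_self_pow (by norm_num : 2 ≠ 0) q]; ring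
      have h3 : 7 ^ 2 ∣ Nat.gcd 3 (q + 1) * Nat.card (PSU 3 F q) := by
        rw [h2, hcube]
        norm_num
        exact ((h49.mul_left _).mul_left _).mul_left _
      have h4 : Nat.Coprime (7 ^ 2) (Nat.gcd 3 (q + 1)) := by
        apply Nat.Coprime.pow_left
        rw [Nat.Prime.coprime_iff_not_dvd (by norm_num)]
        intro h5
        have := h5.trans (Nat.gcd_dvd_left _ _)
        revert this
        norm_num
      exact h4.dvd_of_dvd_mul_left h3)
    have e49 : r ^ 2 = 49 := by rw [hr7]; norm_num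
    rw [e49] at h1
    exact h1

/-- conjugates in `H` -/
theorem mem_H {M : Subgroup (PSU 3 F q)} {s : SU 3 F q}
    (hs : ¬ Av (QuotientGroup.mk' (center (SU 3 F q)) s) M) :
    ∃ g ∈ SUg 3 F q, g * suHom 3 F q s * g⁻¹ ∈ (M.comap (QuotientGroup.mk' (center (SU 3 F q)))).map (suHom 3 F q) := by
  obtain ⟨y, hy⟩ := not_av hs
  obtain ⟨t, rfl⟩ := QuotientGroup.mk'_surjective (center (SU 3 F q)) y
  refine ⟨suHom 3 F q t, suHom_mem t, t * s * t⁻¹, ?_, by simp⟩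
  show QuotientGroup.mk' (center (SU 3 F q)) (t * s * t⁻¹) ∈ M
  rw [map_mul, map_mul, map_inv]
  exact hy

theorem dvd_of_not_av {G : Type*} [Group G] {M : Subgroup G} {x : G} (h : ¬ Av x M) : orderOf x ∣ Nat.card M := by
  by_contra hcon
  exact h (av_of_card hcon)

/-- **`PSU₃(q)`** is not covered by two classes of proper subgroups if `q ≠ 5` is not a power of `3` -/
theorem noTwo_psu3 (hF : Fintype.card F = q ^ 2) (hq : 4 ≤ q) (hq5 : q ≠ 5) (hq3 : ¬ 3 ∣ q) : NoTwo (PSU 3 F q) := by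
  have hfin : Finite (PSU 3 F q) := Quotient.finite _
  obtain ⟨p, n, r, h, hchar, h7⟩ := exists_PN7 hF hq hq5
  have hfp : Fact p.Prime := ⟨h.pp⟩
  have hfr : Fact r.Prime := ⟨h.pr⟩
  have hn0 := h.n0
  have hpp := h.pp
  have hpq : p ∣ q := by rw [h.qp]; exact dvd_pow_self p hn0.ne'
  have hp3 : p ≠ 3 := by rintro rfl; exact hq3 hpq
  obtain ⟨b, e, w, f, R⟩ := exists_reg hF
  obtain ⟨z, hz⟩ := exists_zeta hF
  obtain ⟨a, ha, ha7⟩ := exists_a hF h h7
  obtain ⟨x, E, hx⟩ : ∃ x : Fin 3 → ℤ, Ex (q + 1) x ∧ (q = 4 ∨ (7 ≤ q ∧ x 0 = 1 ∧ x 1 = 2 ∧ x 2 = -3)) := by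
    by_cases hq4 : q = 4
    · refine ⟨![0, 1, -1], ⟨by simp, by simp, ?_, ?_⟩, Or.inl hq4⟩
      · rw [hq4]; simp
      · rw [hq4]
        simp
    · have h6 : q ≠ 6 := by
        intro h6
        exact hq3 (by rw [h6]; norm_num)
      refine ⟨![1, 2, -3], ⟨by simp, by simp, ?_, ?_⟩, Or.inr ⟨by omega, by simp, by simp, by simp⟩⟩
      · intro h1
        have h2 : ((q + 1 : ℕ) : ℤ) ∣ -4 := h1
        have h3 := small (by positivity) h2
        omega
      · intro h1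
        have h2 : ((q + 1 : ℕ) : ℤ) ∣ -5 := h1
        have h3 := small (by positivity) h2
        omega
  set c := dg z hz x E.sum with hc
  set π := QuotientGroup.mk' (center (SU 3 F q)) with hπ
  have hπs : Function.Surjective π := QuotientGroup.mk'_surjective _
  -- the order of `π b`
  have hb : p ∣ orderOf (π b) := by
    have h1 : (π b) ^ p ^ 2 = 1 := by rw [← map_pow, R.pow2 hF, map_one]
    obtain ⟨k, hk, hk2⟩ := (Nat.dvd_prime_pow hpp).1 (orderOf_dvd_of_pow_eq_one h1)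
    rw [hk2]
    refine dvd_pow_self p ?_
    rintro rfl
    rw [pow_zero, orderOf_eq_one_iff] at hk2
    have h2 : b ∈ center (SU 3 F q) := (QuotientGroup.eq_one_iff _).1 hk2
    rw [Cfsg.Agent.LieClassical.SUBasic.mem_center_SU_iff hF le_rfl] at h2
    obtain ⟨t, hcn, hcq, hA⟩ := h2
    refine R.no_scalar hF (g := 1) ⟨t, ?_⟩
    rw [one_mul, inv_one, mul_one, coe_suHom, hA]
    simp [Matrix.smul_one_eq_diagonal]
  -- the order of `π c`
  have hcc : q + 1 ∣ orderOf (π c) := by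
    have h1 : c ^ orderOf (π c) ∈ center (SU 3 F q) := by
      rw [← QuotientGroup.eq_one_iff]
      show π (c ^ orderOf (π c)) = 1
      rw [map_pow, pow_orderOf_eq_one]
    rw [Cfsg.Agent.LieClassical.SUBasic.mem_center_SU_iff hF le_rfl] at h1
    obtain ⟨t, hcn, hcq, hA⟩ := h1
    have h2 : ∀ v, act (c ^ orderOf (π c)) v = t • v := by
      intro v
      rw [← suHom_mulVec, coe_suHom, hA]
      have : ((Cfsg.Agent.LieClassical.SUBasic.suScalar q t hcn hcq : SU 3 F q) : Matrix.SpecialLinearGroup (Fin 3) F).1 =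
        t • (1 : Matrix (Fin 3) (Fin 3) F) := by simp [Matrix.smul_one_eq_diagonal]
      rw [this, Matrix.smul_mulVec, Matrix.one_mulVec]
    have h3 : ∀ k : ℕ, ∀ v : Fin 3 → F, ∀ i, act (c ^ k) v i = ((z ^ (x i * k) : Fˣ) : F) * v i := by
      intro k
      induction k with
      | zero => intro v i; simp [act_one]
      | succ k ih =>
        intro v i
        rw [pow_succ, act_mul, ih, hc, act_dg, ← mul_assoc, ← Units.val_mul, ← zpow_add]
        congr 3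
        push_cast
        ring
    have h4 : ∀ i, ((z ^ (x i * orderOf (π c)) : Fˣ) : F) = t := by
      intro i
      have h5 := congrFun (h2 (Pi.single i 1)) i
      rw [h3] at h5
      simpa using h5
    have h5 := zpow_eq hz ((h4 1).trans (h4 0).symm)
    rw [← sub_mul, E.d10, one_mul] at h5
    exact_mod_cast h5
  have hq2 : q ^ 2 - q = (q - 1) * q := by rw [Nat.sub_mul, one_mul, pow_two]
  refine noTwo_of_three (x := a) (y := π b) (z := π c) ?_ ?_ ?_
  · -- `a` and `b`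
    refine inc_of_coatom fun M hM => ?_
    by_contra hcon
    push Not at hcon
    obtain ⟨h1, h2⟩ := hcon
    have h3 := dvd_of_not_av h1
    have h4 := tor_of hF hq hq5 h hM (ha.trans h3) fun h7 => (ha7 h7).trans h3
    have h5 : p ∣ 3 * (q ^ 2 - q + 1) := ((hb.trans (dvd_of_not_av h2)).mul_left _).trans h4
    rcases hpp.dvd_mul.1 h5 with h6 | h6
    · exact hp3 ((Nat.prime_dvd_prime_iff_eq hpp Nat.prime_three).1 h6)
    · rw [hq2] at h6
      exact hpp.one_lt.ne' (Nat.dvd_one.1 ((Nat.dvd_add_right (hpq.mul_left _)).1 h6))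
  · -- `b` and `c`
    refine inc_of_coatom fun M hM => ?_
    by_contra hcon
    push Not at hcon
    obtain ⟨h1, h2⟩ := hcon
    obtain ⟨g1, hg1, hb1⟩ := mem_H h1
    obtain ⟨g2, hg2, hc2⟩ := mem_H h2
    have hH : IsMaximalIn (SUg 3 F q) ((M.comap π).map (suHom 3 F q)) := by
      have := isMaximalIn_of_coatom π hπs (suHom 3 F q) suHom_injective hM
      rwa [range_suHom] at this
    exact bc_false hF hq hq5 hp3 h.qp hH R hz E hx hg1 hg2 hb1 hc2
  · -- `a` and `c`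
    refine inc_of_coatom fun M hM => ?_
    by_contra hcon
    push Not at hcon
    obtain ⟨h1, h2⟩ := hcon
    have h3 := dvd_of_not_av h1
    have h4 := tor_of hF hq hq5 h hM (ha.trans h3) fun h7 => (ha7 h7).trans h3
    have h5 : Nat.gcd 3 (q + 1) * (q + 1) ∣ 3 * (q ^ 2 - q + 1) :=
      (Nat.mul_dvd_mul_left _ (hcc.trans (dvd_of_not_av h2))).trans h4
    have h6 : q ^ 2 - q + 1 = (q - 2) * (q + 1) + 3 := by
      obtain ⟨t, rfl⟩ : ∃ t, q = t + 2 := ⟨q - 2, by omega⟩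
      rw [hq2]
      simp only [Nat.add_sub_cancel]
      rw [show t + 2 - 1 = t + 1 by omega]
      ring
    have h7 : q + 1 ∣ 9 := by
      have h8 : q + 1 ∣ 3 * (q ^ 2 - q + 1) := (dvd_mul_left _ _).trans h5
      rw [h6, mul_add, ← mul_assoc] at h8
      exact (Nat.dvd_add_right (dvd_mul_left _ _)).1 h8
    have h8 : q = 8 := by
      have := Nat.le_of_dvd (by norm_num) h7
      have h9 : q = 4 ∨ q = 6 ∨ q = 7 ∨ q = 8 := by omega
      rcases h9 with rfl | rfl | rfl | rfl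
      · revert h7; norm_num
      · revert h7; norm_num
      · revert h7; norm_num
      · rfl
    rw [h8] at h5
    revert h5
    norm_num

end

/-- the row -/
theorem noTwo_psu3' {T : Type*} [Group T] {F : Type*} [Field F] [Fintype F] {q : ℕ} (hF : Fintype.card F = q ^ 2)
    (hq : 4 ≤ q) (hq5 : q ≠ 5) (hq3 : ¬ 3 ∣ q) (e : T ≃* PSU 3 F q) : NoTwo T :=
  (noTwo_psu3 hF hq hq5 hq3).congr e.symm

end Cfsg.Agent.H947.Cv
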