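import Cfsg.Agent.H947.Cv.Sz
import Cfsg.Agent.H947.El.Ree
import Cfsg.Agent.H394.SqTI
import Cfsg.Agent.S1155
import Cfsg.Agent.S1073
import Cfsg.Agent.S2359

/-!
# No covering by two classes of proper subgroups (helper947, for S2499): the small Ree groups
-/

set_option autoImplicit false
set_option linter.style.haveILetI false
set_option linter.unusedSectionVars false

namespace Cfsg.Agent.H947.Cv

open MulAction Subgroup Cfsg Cfsg.Agent.H396 Cfsg.Agent.H394.SqBasic Cfsg.Agent.H947.El

/-- an element of prime order `s` which normalises a subgroup of order at most `s` centralises it -/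
theorem comm_of_card_le {R : Type*} [Group R] [Finite R] {V : Subgroup R} {z : R} {s : ℕ} (hs : s.Prime)
    (hzo : orderOf z = s) (hc : Nat.card V ≤ s) (hz : z ∈ Subgroup.normalizer (V : Set R)) :
    ∀ v ∈ V, z * v = v * z := by
  have : Fact s.Prime := ⟨hs⟩
  have hpg : IsPGroup s (zpowers z) := IsPGroup.of_card (n := 1) (by rw [Nat.card_zpowers, hzo, pow_one])
  let g : zpowers z →* MulAut V := (Subgroup.normalizerMonoidHom V).comp
    (Subgroup.inclusion (by rw [zpowers_le]; exact hz))
  letI : MulAction (zpowers z) V := MulAction.compHom V g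
  have h1 := hpg.card_modEq_card_fixedPoints V
  have h2 : Nat.card (fixedPoints (zpowers z) V) ≤ Nat.card V :=
    Nat.card_le_card_of_injective _ Subtype.val_injective
  have h3 : 0 < Nat.card (fixedPoints (zpowers z) V) := by
    rw [Nat.card_pos_iff]
    exact ⟨⟨⟨1, fun y => map_one (g y)⟩⟩, inferInstance⟩
  have h4 : Nat.card V = Nat.card (fixedPoints (zpowers z) V) := by
    rcases Nat.eq_or_lt_of_le h2 with h5 | h5
    · exact h5.symm
    · have h6 := (Nat.modEq_iff_dvd' h2).1 h1.symm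
      have := Nat.le_of_dvd (by omega) h6
      omega
  intro v hv
  have h5 : (⟨v, hv⟩ : V) ∈ fixedPoints (zpowers z) V := by
    by_contra hnot
    have h6 : (fixedPoints (zpowers z) V).ncard < (Set.univ : Set V).ncard := by
      apply Set.ncard_lt_ncard
      · rw [Set.ssubset_univ_iff]
        intro h7
        rw [h7] at hnot
        exact hnot trivial
      · exact Set.toFinite _
    rw [Set.ncard_univ, ← Nat.card_coe_set_eq] at h6
    omega
  have h6 := h5 ⟨z, mem_zpowers z⟩
  have h7 : z * v * z⁻¹ = v := congrArg Subtype.val h6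
  exact mul_inv_eq_iff_eq_mul.1 h7

/-- Frattini -/
theorem dvd_of_frattini {R : Type*} [Group R] [Finite R] (M : Subgroup R) (N : Subgroup M) [N.Normal] {u : ℕ}
    (hu : u.Prime) (hd : u ∣ Nat.card M)
    (hno : ∀ V : Subgroup R, IsPGroup 2 V → (∀ j, 2 ^ j ∣ Nat.card N ↔ 2 ^ j ∣ Nat.card V) → ∀ y : R, orderOf y = u →
      y ∈ Subgroup.normalizer (V : Set R) → False) : u ∣ Nat.card N := by
  by_contra hnd
  have hf2 : Fact (Nat.Prime 2) := ⟨Nat.prime_two⟩
  have hfu : Fact u.Prime := ⟨hu⟩
  obtain ⟨V⟩ : Nonempty (Sylow 2 N) := inferInstance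
  have hF := Sylow.normalizer_sup_eq_top V
  set V1 : Subgroup M := (V : Subgroup N).map N.subtype with hV1
  set H := Subgroup.normalizer (V1 : Set M) with hH
  have h1 : N.index = N.relIndex H := by
    rw [← Subgroup.relIndex_top_right, ← hF]
    exact Subgroup.relIndex_sup_right H N
  have h2 : u ∣ Nat.card H := by
    rw [← N.card_mul_index, h1] at hd
    exact ((hu.dvd_mul.1 hd).resolve_left hnd).trans (Subgroup.relIndex_dvd_card _ _)
  obtain ⟨y, hy⟩ := exists_prime_orderOf_dvd_card' (G := H) u h2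
  have hyo : orderOf ((y : M) : R) = u := by rw [Subgroup.orderOf_coe, Subgroup.orderOf_coe, hy]
  have hV2 : IsPGroup 2 (V1.map M.subtype) := (V.isPGroup'.map _).map _
  have hyn : ((y : M) : R) ∈ Subgroup.normalizer ((V1.map M.subtype : Subgroup R) : Set R) := by
    have := Subgroup.le_normalizer_map (H := V1) M.subtype
    exact this ⟨y, y.2, rfl⟩
  refine hno _ hV2 (fun j => ?_) _ hyo hyn
  rw [Subgroup.card_map_of_injective M.subtype_injective, Subgroup.card_map_of_injective N.subtype_injective,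
    V.card_eq_multiplicity, Nat.pow_dvd_pow_iff_le_right (by norm_num)]
  exact Nat.prime_two.pow_dvd_iff_le_factorization Nat.card_pos.ne'

/-- further facts on `²G₂(q)` -/
structure ReeX (R : Type*) [Group R] (q : ℕ) : Prop where
  simple : IsSimpleGroup R
  ti : ∀ P Q : Sylow 3 R, P ≠ Q → (P : Subgroup R) ⊓ Q = ⊥
  cent : ∀ p : ℕ, p.Prime → p ∣ (q - 1) / 2 → ∀ x : R, orderOf x = p →
    Nat.card (Subgroup.centralizer ({x} : Set R)) = q - 1

/-- the prime `s` -/
structure PrS (m q s : ℕ) : Prop where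
  pr : s.Prime
  iff : ∀ j, s ∣ 3 ^ j - 1 ↔ 2 * m + 1 ∣ j
  big : 7 < s
  half : s ∣ (q - 1) / 2
  one : s ∣ q - 1

/-- the prime `l` -/
structure PrL (q l : ℕ) : Prop where
  pr : l.Prime
  dvd : l ∣ q ^ 2 - q + 1
  big : 3 < l
  nq : ¬ l ∣ q
  nq1 : ¬ l ∣ q - 1
  nqp : ¬ l ∣ q + 1

theorem exists_prS {m q r ρ : ℕ} (hm : 1 ≤ m) (hq : q = 3 ^ (2 * m + 1)) (n : ReeN m q r ρ) : ∃ s, PrS m q s := by
  obtain ⟨s, hs, hs1, hs2, hs3⟩ := Cfsg.Agent.Lib.Zsigmondy.exists_primitive (a := 3) (n := 2 * m + 1) (by norm_num)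
    (by omega) (by omega) (by omega)
  have h1 : s ∣ q - 1 := by rw [hq]; exact (hs1 _).2 dvd_rfl
  have h2 : s ≠ 2 := by
    rintro rfl
    have := Nat.le_of_dvd (by norm_num) ((hs1 1).1 (by norm_num))
    omega
  have h5 : s ≠ 5 := by
    rintro rfl
    have h6 := (hs1 4).1 (by norm_num)
    have h7 : Nat.Coprime (2 * m + 1) (2 ^ 2) := by
      apply Nat.Coprime.pow_right
      rw [Nat.coprime_comm, Nat.prime_two.coprime_iff_not_dvd]; omega
    have h8 := Nat.eq_one_of_dvd_coprimes h7 dvd_rfl h6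
    omega
  have h7 : s ≠ 7 := by
    rintro rfl
    have h6 := (hs1 6).1 (by norm_num)
    have h7 : Nat.Coprime (2 * m + 1) 2 := by
      rw [Nat.coprime_comm, Nat.prime_two.coprime_iff_not_dvd]; omega
    have h8 : 2 * m + 1 ∣ 3 := h7.dvd_of_dvd_mul_right (by norm_num; exact h6)
    have h9 := (hs1 3).2 h8
    norm_num at h9
  have h3 : s ≠ 3 := by
    rintro rfl
    exact hs3 dvd_rfl
  have hbig : 7 < s := by
    by_contra hcon
    have := hs.two_le
    interval_cases s <;> first | omega | (exfalso; revert hs; decide)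
  refine ⟨s, hs, hs1, hbig, ?_, h1⟩
  have hq4 := n.q4
  have h4 : q - 1 = 2 * ((q - 1) / 2) := by omega
  rw [h4] at h1
  exact (hs.dvd_mul.1 h1).resolve_left fun h => by have := Nat.le_of_dvd (by norm_num) h; omega

theorem prL {m q r ρ l : ℕ} (n : ReeN m q r ρ) (hl : l.Prime) (hd : l ∣ q ^ 2 - q + 1) : PrL q l := by
  have h27 := n.q27
  have h2 := n.q2
  have h3 := n.q3
  have e1 : q ^ 2 - q = (q - 1) * q := by rw [Nat.sub_mul, one_mul, pow_two]
  have e2 : q ^ 2 - q + 1 = (q - 2) * (q + 1) + 3 := by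
    obtain ⟨t, rfl⟩ : ∃ t, q = t + 2 := ⟨q - 2, by omega⟩
    rw [e1]
    simp only [Nat.add_sub_cancel]
    rw [show t + 2 - 1 = t + 1 by omega]
    ring
  have hq0 : ¬ l ∣ q := by
    intro h
    rw [e1] at hd
    exact hl.one_lt.ne' (Nat.dvd_one.1 ((Nat.dvd_add_right (h.mul_left _)).1 hd))
  have hq1 : ¬ l ∣ q - 1 := by
    intro h
    rw [e1] at hd
    exact hl.one_lt.ne' (Nat.dvd_one.1 ((Nat.dvd_add_right (h.mul_right _)).1 hd))
  have hl3 : l ≠ 3 := by rintro rfl; exact hq0 h3
  have hl2 : l ≠ 2 := by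
    rintro rfl
    exact hq1 (by omega)
  refine ⟨hl, hd, ?_, hq0, hq1, ?_⟩
  · have := hl.two_le
    omega
  · intro h
    rw [e2] at hd
    exact hl3 ((Nat.prime_dvd_prime_iff_eq hl Nat.prime_three).1 ((Nat.dvd_add_right (h.mul_left _)).1 hd))

section

variable {R : Type*} [Group R] [Finite R] {m q r ρ : ℕ} (h : ReeF R m q r) (n : ReeN m q r ρ)

include h n

/-- elements of order `l` centralise no involution -/
theorem reeF_not_comm_l {l : ℕ} (L : PrL q l) {x e : R} (hx : orderOf x = l) (he : orderOf e = 2) :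
    x * e ≠ e * x := by
  intro hc
  have hbig := L.big
  have hco : Nat.Coprime (orderOf x) (orderOf e) := by
    rw [hx, he, Nat.coprime_primes L.pr Nat.prime_two]
    omega
  have h1 := (show Commute x e from hc).orderOf_mul_eq_mul_orderOf_of_coprime hco
  rw [hx, he] at h1
  have hld : l ∣ orderOf (x * e) := h1 ▸ dvd_mul_right _ _
  have hed : 2 ∣ orderOf (x * e) := h1 ▸ dvd_mul_left _ _
  have h27 := n.q27
  have hrq := n.rq
  have hq2 := n.q2
  have hr2 := n.r2
  rcases h.ord (x * e) with h2 | h2 | h2 | h2 | h2 | h2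
  · have h3 : l ∣ 2 * 3 := hld.trans h2
    rcases L.pr.dvd_mul.1 h3 with h4 | h4
    · have := Nat.le_of_dvd (by norm_num) h4; omega
    · have := Nat.le_of_dvd (by norm_num) h4; omega
  · have h3 : l ∣ 3 := L.pr.dvd_of_dvd_pow (n := 2) (by norm_num; exact hld.trans h2)
    have := Nat.le_of_dvd (by norm_num) h3; omega
  · exact L.nq1 (hld.trans h2)
  · exact L.nqp ((hld.trans h2).trans (Nat.div_dvd_of_dvd (by have := n.q4; omega)))
  · have h3 := hed.trans h2
    omega
  · have h3 := hed.trans h2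
    omega

/-- `5` does not divide `|R|` -/
theorem reeF_five : ¬ 5 ∣ Nat.card R := by
  have h5 : q % 5 = 2 ∨ q % 5 = 3 := by
    rw [h.hq, pow_succ, pow_mul]
    have : ∀ j, (9 ^ j % 5 = 1 ∨ 9 ^ j % 5 = 4) := by
      intro j
      induction j with
      | zero => left; rfl
      | succ j ih => rw [pow_succ]; omega
    have := this m
    norm_num
    omega
  rw [h.card]
  have h27 := n.q27
  intro hd
  have hp5 : Nat.Prime 5 := by norm_num
  rcases hp5.dvd_mul.1 hd with h1 | h1
  · rcases hp5.dvd_mul.1 h1 with h2 | h2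
    · have := hp5.dvd_of_dvd_pow h2
      omega
    · omega
  · have h6 : (q ^ 3 + 1) % 5 = ((q % 5) ^ 3 + 1) % 5 := by
      rw [Nat.add_mod, Nat.pow_mod, Nat.add_mod ((q % 5) ^ 3)]
    rcases h5 with h5 | h5 <;> rw [h5] at h6 <;> omega

/-- no `3`-subgroup is normalised by `M` -/
theorem ree_not_three (X : ReeX R q) (M : Subgroup R) {l : ℕ} (L : PrL q l) (hlM : l ∣ Nat.card M) {E : Subgroup R}
    (hE : IsPGroup 3 E) (hE1 : E ≠ ⊥) (hn : M ≤ Subgroup.normalizer (E : Set R)) : False := by
  have hf3 : Fact (Nat.Prime 3) := ⟨Nat.prime_three⟩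
  have hsim := X.simple
  have h27 := n.q27
  have hq3 := n.q3
  obtain ⟨P, hEP⟩ := hE.exists_le_sylow
  have hcP : Nat.card P = q ^ 3 := by
    rw [P.card_eq_multiplicity, h.card]
    have h1 : ¬ 3 ∣ (q - 1) * (q ^ 3 + 1) := by
      intro h2
      have h7 : 3 ∣ q ^ 3 := n.q3.pow (by norm_num)
      rcases Nat.prime_three.dvd_mul.1 h2 with h3 | h3 <;> omega
    rw [mul_assoc, Nat.factorization_mul (by positivity) (fun h0 => h1 (by rw [h0]; exact dvd_zero _)), Finsupp.add_apply,
      Nat.factorization_eq_zero_of_not_dvd h1, add_zero, h.hq, ← pow_mul, Nat.Prime.factorization_pow Nat.prime_three]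
    simp
  have h1 := Cfsg.Agent.H394.SqTI.card_sylow_eq X.ti P (h := q - 1) (by rw [hcP]; exact hq3.pow (by norm_num))
    (by rw [hcP, h.card]; ring) (by
      rw [hcP]
      calc q - 1 < q := by omega
        _ ≤ q ^ 3 := Nat.le_self_pow (by norm_num) q)
  have hMP : M ≤ Subgroup.normalizer ((P : Subgroup R) : Set R) := by
    intro g hg
    refine Sylow.smul_eq_iff_mem_normalizer.1 ?_
    by_contra hne
    have h2 := X.ti _ _ hne
    apply hE1
    rw [eq_bot_iff, ← h2]
    refine le_inf ?_ hEP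
    intro e he
    rw [Sylow.coe_subgroup_smul]
    have h3 := (Subgroup.mem_normalizer_iff.1 (inv_mem (hn hg)) e).1 he
    rw [inv_inv] at h3
    refine ⟨g⁻¹ * e * g, hEP h3, ?_⟩
    show g * (g⁻¹ * e * g) * g⁻¹ = e
    group
  have h0 : (Subgroup.normalizer ((P : Subgroup R) : Set R)).index = 1 + Nat.card P := by
    rw [← h1]; exact P.card_eq_index_normalizer.symm
  have h4 := (Subgroup.normalizer ((P : Subgroup R) : Set R)).card_mul_index
  rw [h0, hcP, h.card, add_comm 1] at h4
  have h5 : Nat.card (Subgroup.normalizer ((P : Subgroup R) : Set R)) = q ^ 3 * (q - 1) :=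
    Nat.eq_of_mul_eq_mul_right (by positivity) h4
  have h6 := hlM.trans (Subgroup.card_dvd_of_le hMP)
  rw [h5] at h6
  rcases L.pr.dvd_mul.1 h6 with h7 | h7
  · exact L.nq (L.pr.dvd_of_dvd_pow h7)
  · exact L.nq1 h7

/-- an element of order `s` normalises no `2`-subgroup of order divisible by 4 -/
theorem ree_s_two (X : ReeX R q) {s : ℕ} (S : PrS m q s) {V : Subgroup R} (hV : IsPGroup 2 V) (h4 : 4 ∣ Nat.card V)
    {z : R} (hz : orderOf z = s) (hzn : z ∈ Subgroup.normalizer (V : Set R)) : False := by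
  have hbig := S.big
  have h8 := (h.pow_two_le n hV).1
  have h1 := comm_of_card_le S.pr hz (by omega) hzn
  have h2 := X.cent s S.pr S.half z hz
  have h3 : V ≤ Subgroup.centralizer ({z} : Set R) := by
    intro v hv
    rw [Subgroup.mem_centralizer_singleton_iff]
    exact (h1 v hv).symm
  have h5 := h4.trans (Subgroup.card_dvd_of_le h3)
  rw [h2] at h5
  have := n.q4
  omega

/-- an element of order `l` centralises no nontrivial `2`-subgroup of order at most 4 -/
theorem ree_l_two {l : ℕ} (L : PrL q l) {V : Subgroup R} (h2 : 2 ∣ Nat.card V) (h4 : Nat.card V ≤ 4)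
    {z : R} (hz : orderOf z = l) (hzn : z ∈ Subgroup.normalizer (V : Set R)) : False := by
  have hf2 : Fact (Nat.Prime 2) := ⟨Nat.prime_two⟩
  have hbig := L.big
  have h1 := comm_of_card_le L.pr hz (by omega) hzn
  obtain ⟨e, he⟩ := exists_prime_orderOf_dvd_card' (G := V) 2 h2
  have heo : orderOf (e : R) = 2 := by rw [Subgroup.orderOf_coe, he]
  exact reeF_not_comm_l h n L hz heo (h1 e e.2)

/-- simple groups `N` which are involved: `|N| = |R|`. -/
theorem ree_card_of_simple {N : Type*} [Group N] [Finite N] (ι : N →* R) (hι : Function.Injective ι)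
    (hs : IsSimpleGroup N) (hna : ¬ IsMulCommutative N) {s l : ℕ} (S : PrS m q s) (L : PrL q l)
    (hsN : s ∣ Nat.card N) (hlN : ¬ 8 ∣ Nat.card N → l ∣ Nat.card N) : Nat.card R ≤ Nat.card N := by
  classical
  have hf2 : Fact (Nat.Prime 2) := ⟨Nat.prime_two⟩
  have h27 := n.q27
  have hbig := S.big
  have hdvd : Nat.card N ∣ Nat.card R := by
    rw [Nat.card_congr (MonoidHom.ofInjective hι).toEquiv]
    exact Subgroup.card_subgroup_dvd_card _
  have h5N : ¬ 5 ∣ Nat.card N := fun h5 => reeF_five h n (h5.trans hdvd)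
  have h16 : ¬ 16 ∣ Nat.card R := by
    intro h1
    obtain ⟨S⟩ : Nonempty (Sylow 2 R) := inferInstance
    have h2 := (h.syl2 S).1
    rw [S.card_eq_multiplicity] at h2
    have h3 : 4 ≤ (Nat.card R).factorization 2 :=
      (Nat.prime_two.pow_dvd_iff_le_factorization Nat.card_pos.ne').1 (by norm_num; exact h1)
    have h4 : 2 ^ 4 ≤ 2 ^ (Nat.card R).factorization 2 := Nat.pow_le_pow_right (by norm_num) h3
    omega
  obtain ⟨V⟩ : Nonempty (Sylow 2 N) := inferInstance
  have hVab : IsMulCommutative (V : Subgroup N) := by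
    refine ⟨⟨fun a b => ?_⟩⟩
    apply Subtype.ext
    apply hι
    have h1 := (h.pow_two_le n (V.isPGroup'.map ι)).2 (ι a) ⟨a, a.2, rfl⟩ (ι b) ⟨b, b.2, rfl⟩
    show ι ((a : N) * b) = ι ((b : N) * a)
    rw [map_mul, map_mul]
    exact h1
  rcases Cfsg.Agent.S0506.result hna V hVab with ⟨a, ha2, F, _, _, hF, ⟨e⟩⟩ | ⟨F, _, _, hF, ⟨e⟩⟩ | ⟨-, m', hm', hc⟩ | ⟨-, hc⟩
  · -- `PSL₂(2 ^ a)`
    exfalso
    have h1 := Cfsg.Agent.H394.SqPsl2.card_psl (F := F)
    rw [← Nat.card_congr e.toEquiv, hF] at h1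
    have hodd : ¬ 2 ∣ 2 ^ a - 1 := by
      have : 2 ∣ 2 ^ a := dvd_pow_self 2 (by omega)
      have : 0 < 2 ^ a := by positivity
      omega
    have hg : Nat.gcd 2 (2 ^ a - 1) = 1 := (Nat.prime_two.coprime_iff_not_dvd).2 hodd
    rw [hg, one_mul] at h1
    have ha3 : a ≤ 3 := by
      by_contra h3
      apply h16
      refine dvd_trans ?_ hdvd
      rw [h1]
      exact dvd_mul_of_dvd_left (by
        calc (16 : ℕ) = 2 ^ 4 := by norm_num
          _ ∣ 2 ^ a := pow_dvd_pow 2 (by omega)) _
    have : a = 2 ∨ a = 3 := by omega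
    rcases this with rfl | rfl
    · apply h5N
      rw [h1]
      norm_num
    · rw [h1] at hsN
      have h2 : s ∣ 2 ^ 3 * (3 ^ 2 * 7) := by norm_num; norm_num at hsN; exact hsN
      rcases S.pr.dvd_mul.1 h2 with h3 | h3
      · have := Nat.le_of_dvd (by norm_num) (S.pr.dvd_of_dvd_pow h3)
        omega
      · rcases S.pr.dvd_mul.1 h3 with h4 | h4
        · have := Nat.le_of_dvd (by norm_num) (S.pr.dvd_of_dvd_pow h4)
          omega
        · have := Nat.le_of_dvd (by norm_num) h4
          omega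
  · -- `PSL₂(F)`
    exfalso
    have h1 := Cfsg.Agent.H394.SqPsl2.card_psl (F := F)
    rw [← Nat.card_congr e.toEquiv] at h1
    obtain ⟨p, hchar⟩ := CharP.exists F
    have hp : Fact p.Prime := ⟨CharP.char_is_prime F p⟩
    obtain ⟨f, hpf, hf⟩ := FiniteField.card F p
    have hf0 := f.pos
    have hg : Nat.gcd 2 (Fintype.card F - 1) = 2 := Nat.gcd_eq_left (by omega)
    rw [hg] at h1
    rcases Nat.lt_or_ge 3 p with h3p | hp3
    · obtain ⟨hFp, hp4⟩ := h.psl_case h3p (ι.comp e.symm.toMonoidHom) (hι.comp e.symm.injective)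
      rw [hFp] at hF h1
      rcases hp4 with rfl | rfl | rfl | rfl
      · apply h5N
        have : Nat.card N = 60 := by omega
        rw [this]
        norm_num
      · omega
      · have hN : Nat.card N = 1092 := by omega
        rw [hN] at hsN hlN
        have h2 : s ∣ 2 ^ 2 * (3 * (7 * 13)) := by norm_num; exact hsN
        have h13 : s = 13 := by
          rcases S.pr.dvd_mul.1 h2 with h3 | h3
          · have := Nat.le_of_dvd (by norm_num) (S.pr.dvd_of_dvd_pow h3)
            omega
          · rcases S.pr.dvd_mul.1 h3 with h4 | h4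
            · have := Nat.le_of_dvd (by norm_num) h4
              omega
            · rcases S.pr.dvd_mul.1 h4 with h5 | h5
              · have := Nat.le_of_dvd (by norm_num) h5
                omega
              · exact (Nat.prime_dvd_prime_iff_eq S.pr (by norm_num)).1 h5
        have h3 : 2 * m + 1 ∣ 3 := (S.iff 3).1 (by rw [h13]; norm_num)
        have hm1 : m = 1 := by
          have := Nat.le_of_dvd (by norm_num) h3
          have := h.hm
          omega
        have hq27 : q = 27 := by rw [h.hq, hm1]; norm_num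
        have h6 := hlN (by norm_num)
        have h7 := L.dvd
        rw [hq27] at h7
        have h8 := Nat.dvd_gcd h6 h7
        norm_num at h8
        exact L.pr.one_lt.ne' h8
      · omega
    · have hp23 : p = 2 ∨ p = 3 := by
        have := hp.out.two_le
        omega
      rcases hp23 with rfl | rfl
      · have : 2 ∣ Fintype.card F := by rw [hf]; exact dvd_pow_self 2 hf0.ne'
        omega
      · obtain ⟨f, hf0'⟩ := f
        simp only [PNat.mk_coe] at hf hf0
        have hρf : s ∣ Fintype.card F ^ 2 - 1 := by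
          refine (S.pr.dvd_mul.1 (h1 ▸ hsN.mul_left _)).resolve_left fun h2 => ?_
          rw [hf] at h2
          have := (S.pr.dvd_of_dvd_pow h2)
          have := Nat.le_of_dvd (by norm_num) this
          omega
        rw [hf, ← pow_mul, S.iff] at hρf
        have hcop2 : Nat.Coprime (2 * m + 1) 2 := by
          rw [Nat.coprime_comm, Nat.prime_two.coprime_iff_not_dvd]; omega
        have h2 : 2 * m + 1 ∣ f := hcop2.dvd_of_dvd_mul_right hρf
        have h3 : 3 ^ f ∣ Nat.card N := by
          have h4 : 3 ^ f ∣ 2 * Nat.card N := by rw [h1, hf]; exact dvd_mul_right _ _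
          exact (Nat.Coprime.pow_left f (by norm_num)).dvd_of_dvd_mul_left h4
        have h4 := h.three_pow_le n (h3.trans hdvd)
        obtain ⟨j, hj⟩ := h2
        have hj3 : j ≤ 3 := by
          by_contra hcon
          have : (2 * m + 1) * 4 ≤ (2 * m + 1) * j := Nat.mul_le_mul_left _ (by omega)
          omega
        have hj2 : j = 1 ∨ j = 3 := by
          rcases Nat.even_or_odd' j with ⟨i, hi | hi⟩
          · exfalso
            have h5 : Fintype.card F = 9 ^ ((2 * m + 1) * i) := by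
              rw [hf, hj, hi, show (2 * m + 1) * (2 * i) = 2 * ((2 * m + 1) * i) by ring, pow_mul]
              norm_num
            have h6 : 9 ^ ((2 * m + 1) * i) % 8 = 1 := by
              rw [Nat.pow_mod]
              norm_num
            omega
          · omega
        rcases hj2 with rfl | rfl
        · have hFq : Fintype.card F = q := by rw [hf, hj, h.hq, mul_one]
          rw [hFq] at h1 hF
          have hq8 : q % 8 = 3 := by
            have := n.q4
            omega
          have h8N : ¬ 8 ∣ Nat.card N := by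
            rintro ⟨t, ht⟩
            have h5 : q * (q ^ 2 - 1) = 16 * t := by rw [← h1, ht]; ring
            obtain ⟨i, hi⟩ : ∃ i, q = 8 * i + 3 := ⟨q / 8, by omega⟩
            have h6 : q ^ 2 - 1 = 64 * i ^ 2 + 48 * i + 8 := by
              rw [hi]
              have : (8 * i + 3) ^ 2 = 64 * i ^ 2 + 48 * i + 8 + 1 := by ring
              omega
            rw [h6, hi] at h5
            have h7 : (8 * i + 3) * (64 * i ^ 2 + 48 * i + 8) =
              16 * (32 * i ^ 3 + 36 * i ^ 2 + 13 * i + 1) + 8 := by ring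
            omega
          have hlN' := hlN h8N
          have h6 : q ^ 2 - 1 = (q + 1) * (q - 1) := by
            have := Nat.sq_sub_sq q 1
            rwa [one_pow] at this
          have h7 : l ∣ q * ((q + 1) * (q - 1)) := by rw [← h6, ← h1]; exact hlN'.mul_left _
          rcases L.pr.dvd_mul.1 h7 with h8 | h8
          · exact L.nq h8
          · rcases L.pr.dvd_mul.1 h8 with h9 | h9
            · exact L.nqp h9
            · exact L.nq1 h9
        · have hFq : Fintype.card F = q ^ 3 := by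
            rw [hf, h.hq, ← pow_mul, hj]
          have h5 := Nat.le_of_dvd Nat.card_pos hdvd
          rw [h.card] at h5
          rw [hFq] at h1
          have h6 : (q ^ 3) ^ 2 - 1 = (q ^ 3 + 1) * (q ^ 3 - 1) := by
            have := Nat.sq_sub_sq (q ^ 3) 1
            rwa [one_pow] at this
          rw [h6] at h1
          have h7 : q ^ 3 * ((q ^ 3 + 1) * (q ^ 3 - 1)) ≤ 2 * (q ^ 3 * (q - 1) * (q ^ 3 + 1)) := by
            rw [← h1]; exact Nat.mul_le_mul_left 2 h5
          have h8 : q ^ 3 * ((q ^ 3 + 1) * (q ^ 3 - 1)) = (q ^ 3 * (q ^ 3 + 1)) * (q ^ 3 - 1) := by ring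
          have h9 : 2 * (q ^ 3 * (q - 1) * (q ^ 3 + 1)) = (q ^ 3 * (q ^ 3 + 1)) * (2 * (q - 1)) := by ring
          rw [h8, h9] at h7
          have h10 := Nat.le_of_mul_le_mul_left h7 (by positivity)
          have h11 : q ^ 3 = q * q * q := by ring
          have h12 : 27 * 27 * q ≤ q * q * q := Nat.mul_le_mul_right q (Nat.mul_le_mul h27 h27)
          omega
  · -- Ree
    rw [hc] at hsN ⊢
    obtain ⟨w, hw⟩ : ∃ w, w = 3 ^ (2 * m' + 1) := ⟨_, rfl⟩
    rw [← hw] at hsN ⊢
    have hn3 : ¬ s ∣ 3 := fun h3 => by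
      have := Nat.le_of_dvd (by norm_num) h3
      omega
    have hsw : ¬ s ∣ w := fun h3 => hn3 (S.pr.dvd_of_dvd_pow (hw ▸ h3))
    have hcop2 : Nat.Coprime (2 * m + 1) 2 := by
      rw [Nat.coprime_comm, Nat.prime_two.coprime_iff_not_dvd]; omega
    have hs1 : s ∣ w - 1 := by
      rcases S.pr.dvd_mul.1 hsN with h3 | h3
      · rcases S.pr.dvd_mul.1 h3 with h4 | h4
        · exact absurd (S.pr.dvd_of_dvd_pow h4) hsw
        · exfalso
          have h5 : s ∣ w ^ 6 - 1 := by
            have h2 : w ^ 6 - 1 = (w ^ 3 + 1) * (w ^ 3 - 1) := by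
              have := Nat.sq_sub_sq (w ^ 3) 1
              rwa [one_pow, ← pow_mul] at this
            rw [h2]
            exact h4.mul_right _
          rw [hw, ← pow_mul, S.iff] at h5
          have h6 : 2 * m + 1 ∣ (2 * m' + 1) * 3 := by
            apply hcop2.dvd_of_dvd_mul_right
            rw [mul_assoc]
            exact h5
          have h7 := (S.iff _).2 h6
          rw [pow_mul, ← hw] at h7
          have h8 : 0 < w ^ 3 := by
            rw [hw]; positivity
          have h9 : s ∣ 2 := by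
            have h10 : w ^ 3 + 1 = (w ^ 3 - 1) + 2 := by omega
            rw [h10] at h4
            exact (Nat.dvd_add_right h7).1 h4
          have := Nat.le_of_dvd (by norm_num) h9
          omega
      · exact h3
    rw [hw, S.iff] at hs1
    have h3 := Nat.le_of_dvd (by omega) hs1
    have hqs : q ≤ w := by
      rw [h.hq, hw]
      exact Nat.pow_le_pow_right (by norm_num) h3
    rw [h.card]
    have h4 : q ^ 3 ≤ w ^ 3 := Nat.pow_le_pow_left hqs 3
    calc q ^ 3 * (q - 1) * (q ^ 3 + 1) ≤ w ^ 3 * (w - 1) * (w ^ 3 + 1) :=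
          Nat.mul_le_mul (Nat.mul_le_mul h4 (by omega)) (by omega)
      _ = w ^ 3 * (w ^ 3 + 1) * (w - 1) := by ring
  · -- `J₁`
    exfalso
    apply h5N
    rw [hc]
    norm_num

/-- the minimal normal subgroup argument -/
theorem ree_top_of (M : Subgroup R) (hnt : Nontrivial M)
    (hel : ∀ p : ℕ, p.Prime → ∀ E : Subgroup R, IsPGroup p E → E ≠ ⊥ → (∀ x ∈ E, x ^ p = 1) →
      M ≤ Subgroup.normalizer (E : Set R) → False)
    (hsi : ∀ N : Subgroup M, N.Normal → IsSimpleGroup N → ¬ IsMulCommutative N → 4 ∣ Nat.card N →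
      Nat.card R ≤ Nat.card N) : M = ⊤ := by
  classical
  have hf2 : Fact (Nat.Prime 2) := ⟨Nat.prime_two⟩
  have h16 : ¬ 16 ∣ Nat.card R := by
    intro h1
    obtain ⟨S⟩ : Nonempty (Sylow 2 R) := inferInstance
    have h2 := (h.syl2 S).1
    rw [S.card_eq_multiplicity] at h2
    have h3 : 4 ≤ (Nat.card R).factorization 2 :=
      (Nat.prime_two.pow_dvd_iff_le_factorization Nat.card_pos.ne').1 (by norm_num; exact h1)
    have h4 : 2 ^ 4 ≤ 2 ^ (Nat.card R).factorization 2 := Nat.pow_le_pow_right (by norm_num) h3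
    omega
  obtain ⟨N, hN, hN1, hmin⟩ := Cfsg.Agent.Lib.SubnormalJoin.exists_minimal_normal M
  obtain ⟨T, k, hTN, hTs, hk, ⟨e⟩⟩ := Cfsg.Agent.Lib.MinNormal.exists_mulEquiv_pi N hN1 hmin
  by_cases hT : IsMulCommutative T
  · exfalso
    have hab : ∀ x ∈ N, ∀ y ∈ N, Commute x y := by
      intro x hx y hy
      have h1 : (⟨x, hx⟩ : N) * ⟨y, hy⟩ = ⟨y, hy⟩ * ⟨x, hx⟩ := by
        apply e.injective
        rw [map_mul, map_mul]
        funext i
        exact hT.is_comm.comm _ _
      exact congrArg Subtype.val h1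
    obtain ⟨p, hp, hpN, hexp⟩ := Cfsg.Agent.Lib.MinNormalNonabelian.abelian_structure N hN1 hmin hab
    refine hel p hp (N.map M.subtype) (hpN.map _) ?_ ?_ ?_
    · intro hb
      rw [Subgroup.map_eq_bot_iff_of_injective _ M.subtype_injective] at hb
      exact hN1 hb
    · rintro _ ⟨x, hx, rfl⟩
      rw [← map_pow, hexp x hx, map_one]
    · have h1 := Subgroup.le_normalizer_map (H := N) M.subtype
      rw [Subgroup.normalizer_eq_top N, ← MonoidHom.range_eq_map, Subgroup.range_subtype] at h1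
      exact h1
  · have hTns : ¬ Group.IsSolvable T := by
      intro h1
      have h2 := IsSimpleGroup.comm_iff_isSolvable (G := T) |>.2 h1
      exact hT ⟨⟨h2⟩⟩
    have h4T : 4 ∣ Nat.card T := by
      by_contra h4
      exact hTns (Cfsg.Agent.CpAut.SmallP.isSolvable_of_not_four_dvd h4)
    have hcN : Nat.card N = Nat.card T ^ k := by
      rw [Nat.card_congr e.toEquiv, Nat.card_pi, Finset.prod_const, Finset.card_univ, Fintype.card_fin]
    have hNR : Nat.card N ∣ Nat.card R := (Subgroup.card_subgroup_dvd_card N).trans (Subgroup.card_subgroup_dvd_card M)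
    have hk1 : k = 1 := by
      by_contra hk1
      apply h16
      refine dvd_trans ?_ hNR
      rw [hcN]
      calc 16 = 4 ^ 2 := by norm_num
        _ ∣ Nat.card T ^ 2 := pow_dvd_pow_of_dvd h4T 2
        _ ∣ Nat.card T ^ k := pow_dvd_pow _ (by omega)
    subst hk1
    have e' : T ≃* N := ((MulEquiv.piUnique (fun _ : Fin 1 => T)).symm).trans e.symm
    have hNs : IsSimpleGroup N := e'.symm.isSimpleGroup
    have hNna : ¬ IsMulCommutative N := by
      intro h1
      apply hT
      refine ⟨⟨fun a b => ?_⟩⟩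
      apply e'.injective
      rw [map_mul, map_mul]
      exact h1.is_comm.comm _ _
    have h4N : 4 ∣ Nat.card N := by rw [hcN, pow_one]; exact h4T
    exact Subgroup.eq_top_of_le_card M ((hsi N hN hNs hNna h4N).trans (Subgroup.card_le_card_group N))

/-- the case `p > 3` -/
theorem ree_norm_card (M : Subgroup R) {p : ℕ} (hp : p.Prime) (h3p : 3 < p) {E : Subgroup R} (hE : IsPGroup p E)
    (hE1 : E ≠ ⊥) (hEe : ∀ x ∈ E, x ^ p = 1) (hn : M ≤ Subgroup.normalizer (E : Set R)) :
    Nat.card M ∣ 2 * (q - 1) ∨ Nat.card M ∣ 6 * (q + 1) ∨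
      ∃ a, (a = q - r + 1 ∨ a = q + r + 1) ∧ Nat.card M ∣ 6 * a := by
  have hnt : Nontrivial E := (Subgroup.nontrivial_iff_ne_bot E).2 hE1
  have hcE : 1 < Nat.card E := Finite.one_lt_card
  have hcyc := h.cyc p hp h3p E hE
  have hEp : Nat.card E = p := by
    have h1 : Monoid.exponent E ∣ p := by
      rw [Monoid.exponent_dvd_iff_forall_pow_eq_one]
      intro y
      exact Subtype.ext (hEe y y.2)
    rw [IsCyclic.exponent_eq_card] at h1
    rcases (Nat.dvd_prime hp).1 h1 with h2 | h2
    · omega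
    · exact h2
  obtain ⟨A, hAc, hEA, hA⟩ := h.norm p hp h3p E hEp
  have h1 := Subgroup.card_dvd_of_le hn
  rcases hA with ⟨hA1, hA2⟩ | ⟨hA1, hA2⟩ | ⟨hA1, hA2⟩
  · left
    rw [hA2, show 4 * Nat.card A = 2 * (2 * Nat.card A) by ring, hA1] at h1
    exact h1
  · right; left
    rw [hA2, show 24 * Nat.card A = 6 * (4 * Nat.card A) by ring, hA1] at h1
    exact h1
  · right; right
    rw [hA2] at h1
    exact ⟨_, hA1, h1⟩

/-- `M` contains elements of orders `s` and `l` -/
theorem ree_top_s_l (X : ReeX R q) (M : Subgroup R) {s l : ℕ} (S : PrS m q s) (L : PrL q l)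
    (hsM : s ∣ Nat.card M) (hlM : l ∣ Nat.card M) : M = ⊤ := by
  have hfs : Fact s.Prime := ⟨S.pr⟩
  have hfl : Fact l.Prime := ⟨L.pr⟩
  have hbig := S.big
  have hbig' := L.big
  have hq4 := n.q4
  have h27 := n.q27
  have hn6 : ¬ s ∣ 6 := fun h6 => by have := Nat.le_of_dvd (by norm_num) h6; omega
  have hn6' : ¬ l ∣ 6 := fun h6 => by
    have h6' : l ∣ 2 * 3 := h6
    rcases L.pr.dvd_mul.1 h6' with h7 | h7 <;>
    · have := Nat.le_of_dvd (by norm_num) h7; omega
  have hcardN : ∀ N : Subgroup M, Nat.card (N.map M.subtype) = Nat.card N := fun N =>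
    Subgroup.card_map_of_injective M.subtype_injective
  obtain ⟨x, hx⟩ := exists_prime_orderOf_dvd_card' (G := M) s hsM
  obtain ⟨y, hy⟩ := exists_prime_orderOf_dvd_card' (G := M) l hlM
  have hxo : orderOf (x : R) = s := by rw [Subgroup.orderOf_coe, hx]
  have hyo : orderOf (y : R) = l := by rw [Subgroup.orderOf_coe, hy]
  refine ree_top_of h n M ?_ ?_ ?_
  · rw [← Finite.one_lt_card_iff_nontrivial]
    have := Nat.le_of_dvd Nat.card_pos hsM
    omega
  · intro p hp E hE hE1 hEe hn
    rcases Nat.lt_or_ge 3 p with h3p | hp3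
    · rcases ree_norm_card h n M hp h3p hE hE1 hEe hn with h1 | h1 | ⟨a, ha, h1⟩
      · have h2 := hlM.trans h1
        rcases L.pr.dvd_mul.1 h2 with h3 | h3
        · exact hn6' (h3.trans (by norm_num))
        · exact L.nq1 h3
      · have h2 := hsM.trans h1
        rcases S.pr.dvd_mul.1 h2 with h3 | h3
        · exact hn6 h3
        · have h4 : s ∣ 2 := by
            have h5 : q + 1 = (q - 1) + 2 := by omega
            rw [h5] at h3
            exact (Nat.dvd_add_right S.one).1 h3
          exact hn6 (h4.trans (by norm_num))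
      · have h2 := hsM.trans h1
        rcases S.pr.dvd_mul.1 h2 with h3 | h3
        · exact hn6 h3
        · have h2 : a ∣ q ^ 2 - q + 1 := by
            rw [n.fac]
            rcases ha with rfl | rfl
            · exact dvd_mul_right _ _
            · exact dvd_mul_left _ _
          have h3 := h3.trans h2
          have h4 : q ^ 2 - q = (q - 1) * q := by rw [Nat.sub_mul, one_mul, pow_two]
          rw [h4] at h3
          exact S.pr.one_lt.ne' (Nat.dvd_one.1 ((Nat.dvd_add_right (S.one.mul_right _)).1 h3))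
    · have hp23 : p = 2 ∨ p = 3 := by
        have := hp.two_le
        omega
      rcases hp23 with rfl | rfl
      · have hf2 : Fact (Nat.Prime 2) := ⟨Nat.prime_two⟩
        have hnt : Nontrivial E := (Subgroup.nontrivial_iff_ne_bot E).2 hE1
        obtain ⟨a, ha0, ha⟩ := IsPGroup.nontrivial_iff_card hE |>.1 hnt
        have h8 := (h.pow_two_le n hE).1
        rcases Nat.lt_or_ge (Nat.card E) 5 with h5 | h5
        · exact ree_l_two h n L (by rw [ha]; exact dvd_pow_self 2 (by omega)) (by omega) hyo (hn y.2)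
        · refine ree_s_two h n X S hE ?_ hxo (hn x.2)
          rw [ha] at h5 ⊢
          have : 2 ≤ a := by
            by_contra hcon
            have : a = 1 := by omega
            rw [this] at h5
            omega
          calc (4 : ℕ) = 2 ^ 2 := by norm_num
            _ ∣ 2 ^ a := pow_dvd_pow 2 this
      · exact ree_not_three h n X M L hlM hE hE1 hn
  · intro N hN hNs hNna h4N
    have hsN : s ∣ Nat.card N := dvd_of_frattini M N S.pr hsM fun V hV hj z hz hzn =>
      ree_s_two h n X S hV ((hj 2).1 (by norm_num; exact h4N)) hz hzn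
    refine ree_card_of_simple h n (M.subtype.comp N.subtype)
      (M.subtype_injective.comp N.subtype_injective) hNs hNna S L hsN fun h8N => ?_
    refine dvd_of_frattini M N L.pr hlM fun V hV hj z hz hzn => ?_
    have hf2 : Fact (Nat.Prime 2) := ⟨Nat.prime_two⟩
    have h8V : ¬ 8 ∣ Nat.card V := fun h8 => h8N ((hj 3).2 (by norm_num; exact h8))
    have h4V : 4 ∣ Nat.card V := (hj 2).1 (by norm_num; exact h4N)
    obtain ⟨a, ha⟩ := (IsPGroup.iff_card).1 hV
    refine ree_l_two h n L ((by norm_num : (2 : ℕ) ∣ 4).trans h4V) ?_ hz hzn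
    rw [ha] at h8V ⊢
    have : a ≤ 2 := by
      by_contra hcon
      exact h8V (by
        calc (8 : ℕ) = 2 ^ 3 := by norm_num
          _ ∣ 2 ^ a := pow_dvd_pow 2 (by omega))
    calc 2 ^ a ≤ 2 ^ 2 := Nat.pow_le_pow_right (by norm_num) this
      _ = 4 := by norm_num

/-- `M` contains elements of orders `ρ` and `l`, in different tori -/
theorem ree_top_ρ_l (M : Subgroup R) {l : ℕ} (L : PrL q l) (hρM : ρ ∣ Nat.card M) (hlM : l ∣ Nat.card M)
    (hl : (l ∣ q - r + 1 ∧ ρ ∣ q + r + 1) ∨ (l ∣ q + r + 1 ∧ ρ ∣ q - r + 1)) : M = ⊤ := by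
  have hfρ : Fact ρ.Prime := ⟨n.pr⟩
  have h19 := n.q19
  have hbig' := L.big
  have hrq := n.rq
  have hn6' : ¬ l ∣ 6 := fun h6 => by
    have h6' : l ∣ 2 * 3 := h6
    rcases L.pr.dvd_mul.1 h6' with h7 | h7 <;>
    · have := Nat.le_of_dvd (by norm_num) h7; omega
  have hn6 : ¬ ρ ∣ 6 := fun h6 => by have := Nat.le_of_dvd (by norm_num) h6; omega
  obtain ⟨x, hx⟩ := exists_prime_orderOf_dvd_card' (G := M) ρ hρM
  have hxo : orderOf (x : R) = ρ := by rw [Subgroup.orderOf_coe, hx]
  -- the two tori are coprime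
  have hcop : ∀ t : ℕ, t.Prime → 3 < t → t ∣ q - r + 1 → t ∣ q + r + 1 → False := by
    intro t ht h3 h1 h2
    have h4 : t ∣ 2 * r := by
      have := Nat.dvd_sub h2 h1
      rwa [show q + r + 1 - (q - r + 1) = 2 * r by omega] at this
    rcases ht.dvd_mul.1 h4 with h5 | h5
    · have := Nat.le_of_dvd (by norm_num) h5; omega
    · rw [h.hr] at h5
      have := Nat.le_of_dvd (by norm_num) (ht.dvd_of_dvd_pow h5); omega
  refine ree_top_of h n M ?_ ?_ ?_
  · rw [← Finite.one_lt_card_iff_nontrivial]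
    have := Nat.le_of_dvd Nat.card_pos hρM
    omega
  · intro p hp E hE hE1 hEe hn
    have hfp : Fact p.Prime := ⟨hp⟩
    rcases Nat.lt_or_ge 3 p with h3p | hp3
    · rcases ree_norm_card h n M hp h3p hE hE1 hEe hn with h1 | h1 | ⟨a, ha, h1⟩
      · rcases n.pr.dvd_mul.1 (hρM.trans h1) with h3 | h3
        · exact hn6 (h3.trans (by norm_num))
        · exact n.nq1 h3
      · rcases n.pr.dvd_mul.1 (hρM.trans h1) with h3 | h3
        · exact hn6 h3
        · exact n.nqp h3
      · have h2 : ρ ∣ a := (n.pr.dvd_mul.1 (hρM.trans h1)).resolve_left hn6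
        have h3 : l ∣ a := (L.pr.dvd_mul.1 (hlM.trans h1)).resolve_left hn6'
        rcases ha with rfl | rfl <;> rcases hl with ⟨h4, h5⟩ | ⟨h4, h5⟩
        · exact hcop ρ n.pr (by omega) h2 h5
        · exact hcop l L.pr (by omega) h3 h4
        · exact hcop l L.pr (by omega) h4 h3
        · exact hcop ρ n.pr (by omega) h5 h2
    · have hp23 : p = 2 ∨ p = 3 := by
        have := hp.two_le
        omega
      have hm := h.hm
      have hge := n.ge
      have hnt : Nontrivial E := (Subgroup.nontrivial_iff_ne_bot E).2 hE1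
      have hcE : 1 < Nat.card E := Finite.one_lt_card
      obtain ⟨a, ha⟩ := (IsPGroup.iff_card).1 hE
      have ha0 : 0 < a := by
        rcases Nat.eq_zero_or_pos a with rfl | ha0
        · rw [pow_zero] at ha; omega
        · exact ha0
      have h1 := h.card_sub_one n hxo hp23 hE (hn x.2)
      rcases hp23 with rfl | rfl
      · have := (h.pow_two_le n hE).1
        have := Nat.le_of_dvd (by omega) h1
        omega
      · rw [ha] at h1
        have h2 := Nat.le_of_dvd ha0 ((n.iff a).1 h1)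
        have h3 := h.three_pow_le n (a := a) (ha ▸ Subgroup.card_subgroup_dvd_card E)
        omega
  · intro N hN hNs hNna h4N
    have hρN := h.dvd_of_simple n M hρM N h4N
    exact h.card_of_simple n (M.subtype.comp N.subtype) (M.subtype_injective.comp N.subtype_injective) hNs hNna hρN

/-- **the small Ree groups** are not covered by two classes of proper subgroups -/
theorem ree_cov2 (X : ReeX R q) {H K : Subgroup R} (hH : H ≠ ⊤) (hK : K ≠ ⊤)
    (hcov : ∀ g : R, ∃ x : R, x * g * x⁻¹ ∈ H ∨ x * g * x⁻¹ ∈ K) : False := by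
  obtain ⟨s, S⟩ := exists_prS h.hm h.hq n
  have hrq := n.rq
  have h27 := n.q27
  have hp : ∀ l : ℕ, l.Prime → l ∣ Nat.card R → l ∣ Nat.card H ∨ l ∣ Nat.card K :=
    fun l hl hd => prime_dvd hcov hl hd
  have hdvd : ∀ l : ℕ, l ∣ q ^ 2 - q + 1 → l ∣ Nat.card R := by
    intro l hl
    rw [h.card, n.cube]
    exact (hl.mul_left _).mul_left _
  have main : ∀ H K : Subgroup R, H ≠ ⊤ → K ≠ ⊤ → (∀ l : ℕ, l.Prime → l ∣ Nat.card R → l ∣ Nat.card H ∨ l ∣ Nat.card K) →
      s ∣ Nat.card H → False := by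
    intro H K hH hK hp hsH
    have hall : ∀ l : ℕ, l.Prime → l ∣ q ^ 2 - q + 1 → l ∣ Nat.card K := by
      intro l hl hd
      rcases hp l hl (hdvd l hd) with h1 | h1
      · exact absurd (ree_top_s_l h n X H S (prL n hl hd) hsH h1) hH
      · exact h1
    have hρK := hall ρ n.pr n.dvd
    have hρ := n.dvd
    rw [n.fac] at hρ
    rcases n.pr.dvd_mul.1 hρ with h1 | h1
    · obtain ⟨l, hl, hld⟩ := Nat.exists_prime_and_dvd (n := q + r + 1) (by omega)
      have hld' : l ∣ q ^ 2 - q + 1 := by rw [n.fac]; exact hld.mul_left _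
      exact hK (ree_top_ρ_l h n K (prL n hl hld') hρK (hall l hl hld') (Or.inr ⟨hld, h1⟩))
    · obtain ⟨l, hl, hld⟩ := Nat.exists_prime_and_dvd (n := q - r + 1) (by omega)
      have hld' : l ∣ q ^ 2 - q + 1 := by rw [n.fac]; exact hld.mul_right _
      exact hK (ree_top_ρ_l h n K (prL n hl hld') hρK (hall l hl hld') (Or.inl ⟨hld, h1⟩))
  rcases hp s S.pr (by rw [h.card]; exact (S.one.mul_left _).mul_right _) with h1 | h1
  · exact main H K hH hK hp h1
  · exact main K H hK hH (fun l hl hd => (hp l hl hd).symm) h1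

end

theorem reeX {K : Type*} [Field K] [Fintype K] {m : ℕ} (hm : 1 ≤ m) (hK : Fintype.card K = 3 ^ (2 * m + 1)) :
    ReeX ↥(Cfsg.Lie.twistedG2 K (3 ^ m)) (3 ^ (2 * m + 1)) := by
  refine ⟨(Cfsg.Agent.S1073.result hm hK).1, Cfsg.Agent.S1155.result hm hK, ?_⟩
  intro p hp hpd x hx
  obtain ⟨A, hAc, hAk, hAn, hA0⟩ := Cfsg.Agent.S1158.result hm hK ((3 ^ (2 * m + 1) - 1) / 2, 2 * (3 ^ (2 * m + 1) - 1))
    (by simp)
  simp only at hAk hAn
  have hfp : Fact p.Prime := ⟨hp⟩
  obtain ⟨y, hy⟩ := exists_prime_orderOf_dvd_card' (G := A) p (by rw [hAk]; exact hpd)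
  have hBc : Nat.card (zpowers (y : ↥(Cfsg.Lie.twistedG2 K (3 ^ m)))) = p := by
    rw [Nat.card_zpowers, Subgroup.orderOf_coe, hy]
  have hXc : Nat.card (zpowers x) = p := by rw [Nat.card_zpowers, hx]
  obtain ⟨g, hg⟩ := Cfsg.Agent.S2358.result hm hK p (Or.inl hpd) (zpowers (y : ↥(Cfsg.Lie.twistedG2 K (3 ^ m))))
    (zpowers x) inferInstance inferInstance hBc hXc
  have hBA : zpowers x ≤ A.map (MulAut.conj g).toMonoidHom := by
    rw [hg]
    apply Subgroup.map_mono
    rw [zpowers_le]
    exact y.2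
  have hcA : Nat.card (A.map (MulAut.conj g).toMonoidHom) = (3 ^ (2 * m + 1) - 1) / 2 := by
    rw [Subgroup.card_map_of_injective (MulAut.conj g).injective, hAk]
  have hcyc : IsCyclic (A.map (MulAut.conj g).toMonoidHom) :=
    isCyclic_of_surjective (A.equivMapOfInjective _ (MulAut.conj g).injective)
      (A.equivMapOfInjective _ (MulAut.conj g).injective).surjective
  obtain ⟨-, h2, h3⟩ := (Cfsg.Agent.S2359.result hm hK _ hcyc).1 hcA
  have hx1 : zpowers x ≠ ⊥ := by
    rw [Ne, zpowers_eq_bot]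
    rintro rfl
    rw [orderOf_one] at hx
    exact hp.one_lt.ne hx
  have h4 := h3 _ hBA hx1
  rw [← Subgroup.centralizer_closure, ← zpowers_eq_closure, h4, h2]

theorem cov2_ree {T : Type*} [Group T] (h : Cfsg.Lie.IsoRee T) {H K : Subgroup T} (hH : H ≠ ⊤) (hK : K ≠ ⊤)
    (hcov : ∀ g : T, ∃ x : T, x * g * x⁻¹ ∈ H ∨ x * g * x⁻¹ ∈ K) : False := by
  obtain ⟨F, iF, iF', m, hm, hF, ⟨e⟩⟩ := h
  obtain ⟨ρ, n⟩ := exists_reeN m hm
  have hfin : Finite ↥(Cfsg.Lie.twistedG2 F (3 ^ m)) := inferInstance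
  exact cov2_congr e (fun H K hH hK hcov => ree_cov2 (reeF hm hF n) n (reeX hm hF) hH hK hcov) hH hK hcov

/-- **the small Ree row of S2499** -/
theorem noTwo_ree {T : Type*} [Group T] (h : Cfsg.Lie.IsoRee T) : Cfsg.Agent.H278.Cov.NoTwo T :=
  noTwo_of_cov2 fun _ _ hH hK hcov => cov2_ree h hH hK hcov

end Cfsg.Agent.H947.Cv
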