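import Cfsg.Agent.H947.Cyc.Psu3
import Cfsg.Agent.ClassicalGeometry.PSUAutPhi
import Cfsg.Agent.ClassicalGeometry.PSUAutSemi

/-!
# No covering by two classes of proper subgroups (helper947, for S2499): `PSU₃(q)`, the elements

* the Siegel element `b` (regular unipotent);
* the diagonal element `c = diag (ζ ^ e₀, ζ ^ e₁, ζ ^ e₂)`.
-/

set_option autoImplicit false
set_option linter.style.haveILetI false
set_option linter.unusedSectionVars false

namespace Cfsg.Agent.H947.Cv

open Subgroup Cfsg Cfsg.Geo Cfsg.Agent.H947.Sq Module Cfsg.Agent.H918 Cfsg.Agent.H907.Mx Cfsg.Agent.H947.El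
open Cfsg.Agent.LieClassical.HermSiegel Cfsg.Agent.LieClassical.HermBasic Cfsg.Agent.LieClassical.HermGen
  Cfsg.Agent.ClassicalGeometry.PSUAutBasic Cfsg.Agent.ClassicalGeometry.PSUAutPhi
open scoped MatrixGroups Matrix

section siegel

variable {F : Type*} [Field F] [Fintype F] {q : ℕ}

/-- the data of a regular unipotent element -/
structure Reg (F : Type*) [Field F] [Fintype F] (q : ℕ) (b : SU 3 F q) (e w f : Fin 3 → F) : Prop where
  ee : hermForm 3 F q e e = 0
  fe : hermForm 3 F q f e = 1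
  ww : hermForm 3 F q w w = 1
  we : hermForm 3 F q w e = 0
  e0 : e ≠ 0
  actF : ∀ v : Fin 3 → F, ∃ μ : F, act b v = v + hermForm 3 F q v e • w + μ • e ∧
    (hermForm 3 F q v e = 0 → μ = - hermForm 3 F q v w)
  dim : ∀ v : Fin 3 → F, hermForm 3 F q v e = 0 → hermForm 3 F q v w = 0 → ∃ c : F, v = c • e

theorem exists_reg (hF : Fintype.card F = q ^ 2) : ∃ (b : SU 3 F q) (e w f : Fin 3 → F), Reg F q b e w f := by
  obtain ⟨e, f, H⟩ := exists_frame (n := 3) hF (by omega)
  have he0 : e ≠ 0 := by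
    rintro rfl
    have := H.ef
    simp [hermForm] at this
  set w : Fin 3 → F := Pi.single 0 1 with hw
  have hwm : w ∈ coordSub F 3 (3 - 2) := by
    intro i hi
    rw [hw, Pi.single_eq_of_ne]
    rintro rfl
    simp at hi
  have hww : hermForm 3 F q w w = 1 := by
    rw [hw, herm_single_right hF, Pi.single_eq_same, one_pow, one_mul]
  obtain ⟨μ, h⟩ := exists_isSiegel hF H hwm
  have hew : hermForm 3 F q e w = 0 := h.orth' hF
  refine ⟨siegel hF e w μ h, e, w, f, H.ee, ?_, hww, h.orth, he0, fun v => ⟨_, act_siegel hF h v, ?_⟩, ?_⟩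
  · rw [herm_swap hF, H.ef, one_pow]
  · intro h0
    rw [h0, mul_zero, zero_sub]
  · intro v h1 h2
    refine ⟨hermForm 3 F q v f, ?_⟩
    have h3 : v - hermForm 3 F q v f • e ∈ coordSub F 3 (3 - 2) := by
      rw [H.mem]
      constructor
      · rw [herm_sub_left, herm_smul_left, h1, H.ee]; ring
      · rw [herm_sub_left, herm_smul_left, H.ef]; ring
    have h4 : hermForm 3 F q (v - hermForm 3 F q v f • e) w = 0 := by
      rw [herm_sub_left, herm_smul_left, h2, hew]; ring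
    rw [hw, herm_single_right hF, one_pow, mul_one] at h4
    have h5 : v - hermForm 3 F q v f • e = 0 := by
      funext i
      by_cases hi : i = 0
      · rw [hi]; exact h4
      · refine h3 i ?_
        have : i.val ≠ 0 := fun h => hi (Fin.ext h)
        omega
    exact sub_eq_zero.1 h5

variable {b : SU 3 F q} {e w f : Fin 3 → F}

/-- the nilpotent part -/
def nil (b : SU 3 F q) (v : Fin 3 → F) : Fin 3 → F := act b v - v

theorem Reg.nil_e (R : Reg F q b e w f) (hF : Fintype.card F = q ^ 2) : nil b e = 0 := by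
  obtain ⟨μ, h1, h2⟩ := R.actF e
  have h3 : hermForm 3 F q e w = 0 := herm_eq_zero_swap hF R.we
  rw [R.ee, zero_smul, add_zero, h2 R.ee, h3, neg_zero, zero_smul, add_zero] at h1
  rw [nil, h1, sub_self]

theorem Reg.nil_w (R : Reg F q b e w f) : nil b w = - e := by
  obtain ⟨μ, h1, h2⟩ := R.actF w
  rw [R.we, zero_smul, add_zero, h2 R.we, R.ww, neg_smul, one_smul] at h1
  rw [nil, h1]
  abel

theorem nil_add (b : SU 3 F q) (u v : Fin 3 → F) : nil b (u + v) = nil b u + nil b v := by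
  rw [nil, nil, nil, act_add]; abel

theorem nil_smul (b : SU 3 F q) (c : F) (v : Fin 3 → F) : nil b (c • v) = c • nil b v := by
  rw [nil, nil, act_smul, smul_sub]

theorem Reg.nil2 (R : Reg F q b e w f) (hF : Fintype.card F = q ^ 2) (v : Fin 3 → F) :
    nil b (nil b v) = - hermForm 3 F q v e • e := by
  obtain ⟨μ, h1, -⟩ := R.actF v
  have h2 : nil b v = hermForm 3 F q v e • w + μ • e := by
    rw [nil, h1]; abel
  rw [h2, nil_add, nil_smul, nil_smul, R.nil_e hF, R.nil_w, smul_zero, add_zero, smul_neg, neg_smul]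

theorem Reg.nil3 (R : Reg F q b e w f) (hF : Fintype.card F = q ^ 2) (v : Fin 3 → F) :
    nil b (nil b (nil b v)) = 0 := by
  rw [R.nil2 hF v, nil_smul, R.nil_e hF, smul_zero]

theorem Reg.nil2_f (R : Reg F q b e w f) (hF : Fintype.card F = q ^ 2) : nil b (nil b f) ≠ 0 := by
  rw [R.nil2 hF, R.fe, neg_smul, one_smul, neg_ne_zero]
  exact R.e0

theorem nil_one (v : Fin 3 → F) : nil (1 : SU 3 F q) v = 0 := by
  rw [nil, act_one, sub_self]

theorem nil_zero (b : SU 3 F q) : nil b (0 : Fin 3 → F) = 0 := by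
  rw [nil, act_zero, sub_self]

theorem Reg.ne_one (R : Reg F q b e w f) (hF : Fintype.card F = q ^ 2) : b ≠ 1 := by
  rintro rfl
  apply R.nil2_f hF
  rw [nil_one]

/-- eigenvectors of `b` are isotropic -/
theorem Reg.eigen (R : Reg F q b e w f) (hF : Fintype.card F = q ^ 2) {y : Fin 3 → F} {c : F} (hy0 : y ≠ 0)
    (hy : act b y = c • y) : hermForm 3 F q y y = 0 := by
  have h1 : nil b y = (c - 1) • y := by rw [nil, hy, sub_smul, one_smul]
  have h2 := R.nil3 hF y
  rw [h1, nil_smul, h1, nil_smul, nil_smul, h1, smul_smul, smul_smul] at h2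
  have h3 : c - 1 = 0 := by
    rcases smul_eq_zero.1 h2 with h3 | h3
    · simpa using h3
    · exact absurd h3 hy0
  have hc : c = 1 := sub_eq_zero.1 h3
  rw [hc, one_smul] at hy
  obtain ⟨μ, h4, h5⟩ := R.actF y
  rw [hy] at h4
  have h6 : hermForm 3 F q y e • w + μ • e = 0 := by
    have : y + (hermForm 3 F q y e • w + μ • e) = y + 0 := by rw [add_zero, ← add_assoc]; exact h4.symm
    exact add_left_cancel this
  have hew : hermForm 3 F q e w = 0 := herm_eq_zero_swap hF R.we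
  have h7 : hermForm 3 F q y e = 0 := by
    have h8 := congrArg (fun z => hermForm 3 F q z w) h6
    simp only [herm_add_left, herm_smul_left, R.ww, hew, herm_zero_left] at h8
    simpa using h8
  have h8 := h5 h7
  rw [h7, zero_smul, zero_add] at h6
  have h9 : μ = 0 := (smul_eq_zero.1 h6).resolve_right R.e0
  rw [h9] at h8
  obtain ⟨t, ht⟩ := R.dim y h7 (neg_eq_zero.1 h8.symm)
  rw [ht, herm_smul_left, herm_smul_right, R.ee]
  ring

/-- the order of `b` -/
theorem Reg.pow (R : Reg F q b e w f) (hF : Fintype.card F = q ^ 2) {p k : ℕ} [Fact p.Prime] [CharP F p]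
    (hk : 3 ≤ p ^ k) : b ^ (p ^ k) = 1 := by
  set N : Matrix (Fin 3) (Fin 3) F := mat b - 1 with hN
  have hNv : ∀ v, N *ᵥ v = nil b v := by
    intro v
    rw [hN, Matrix.sub_mulVec, Matrix.one_mulVec]; rfl
  have hN3 : N ^ 3 = 0 := by
    apply Matrix.ext_of_mulVec_single
    intro i
    rw [Matrix.zero_mulVec, pow_succ, pow_two, ← Matrix.mulVec_mulVec, ← Matrix.mulVec_mulVec, hNv, hNv, hNv,
      R.nil3 hF]
  have hmp : ∀ j : ℕ, mat (b ^ j) = (mat b) ^ j := by
    intro j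
    induction j with
    | zero => rw [pow_zero, pow_zero]; rfl
    | succ j ih => rw [pow_succ, mat_mul, ih, pow_succ]
  apply mat_injective
  rw [hmp, show mat b = N + 1 by rw [hN]; abel, add_pow_char_pow_of_commute p k (Commute.one_right N), one_pow]
  have : N ^ p ^ k = 0 := by
    obtain ⟨j, hj⟩ := Nat.exists_eq_add_of_le hk
    rw [hj, pow_add, hN3, zero_mul]
  rw [this, zero_add]
  rfl

theorem Reg.pow2 (R : Reg F q b e w f) (hF : Fintype.card F = q ^ 2) {p : ℕ} [hp : Fact p.Prime] [CharP F p] :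
    b ^ (p ^ 2) = 1 :=
  R.pow hF (by have := hp.out.two_le; nlinarith)

theorem Reg.no_six (R : Reg F q b e w f) (hF : Fintype.card F = q ^ 2) {p : ℕ} [hp : Fact p.Prime] [CharP F p]
    (hp3 : p ≠ 3) : b ^ 6 ≠ 1 := by
  intro h6
  have h1 := orderOf_dvd_of_pow_eq_one h6
  have h2 := orderOf_dvd_of_pow_eq_one (R.pow2 hF (p := p))
  have h3 := Nat.dvd_gcd h2 h1
  rcases Nat.lt_or_ge 3 p with h4 | h4
  · have h5 : Nat.Coprime (p ^ 2) 6 := by
      apply Nat.Coprime.pow_left
      rw [hp.out.coprime_iff_not_dvd]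
      intro h6
      have h7 : p ∣ 2 * 3 := h6
      rcases hp.out.dvd_mul.1 h7 with h8 | h8
      · have := Nat.le_of_dvd (by norm_num) h8; omega
      · have := Nat.le_of_dvd (by norm_num) h8; omega
    rw [h5, Nat.dvd_one, orderOf_eq_one_iff] at h3
    exact R.ne_one hF h3
  · have hp2 : p = 2 := by
      have := hp.out.two_le
      omega
    subst hp2
    norm_num at h3
    have h5 : b ^ 2 = 1 := orderOf_dvd_iff_pow_eq_one.1 h3
    apply R.nil2_f hF
    have h7 : act b (act b f) = f := by rw [← act_mul, ← pow_two, h5, act_one]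
    have h8 : nil b (nil b f) = act b (act b f) + f - (act b f + act b f) := by
      rw [nil, nil, Cfsg.Agent.LieClassical.HermSiegel.act_sub]; abel
    rw [h8, h7, ← two_smul F f, ← two_smul F (act b f), (by exact_mod_cast CharP.cast_eq_zero F 2 : (2 : F) = 0),
      zero_smul, zero_smul, sub_zero]

end siegel

/-! ### Exclusion of the regular unipotent element from the geometric subgroups -/

section reg

variable {F : Type*} [Field F] [Fintype F] {q : ℕ} {b : SU 3 F q} {e w f : Fin 3 → F}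

theorem suHom_mulVec (b : SU 3 F q) (v : Fin 3 → F) :
    ((suHom 3 F q b : GL (Fin 3) F) : Matrix (Fin 3) (Fin 3) F) *ᵥ v = act b v := rfl

/-- no stabiliser of a nondegenerate line -/
theorem Reg.no_line (R : Reg F q b e w f) (hF : Fintype.card F = q ^ 2) {g : GL (Fin 3) F} (hg : g ∈ SUg 3 F q)
    {W : Submodule F (Fin 3 → F)} (hW0 : W ≠ ⊥) (hWn : IsNondegenerateOn (hermForm 3 F q) W)
    (hW : 2 * finrank F W < 3) (hgW : g * suHom 3 F q b * g⁻¹ ∈ subspaceStabilizer W) : False := by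
  have h1 : finrank F W = 1 := by
    have : finrank F W ≠ 0 := by rw [Ne, Submodule.finrank_eq_zero]; exact hW0
    omega
  obtain ⟨x, hx0, hx⟩ := finrank_eq_one_iff'.1 h1
  set y : Fin 3 → F := ((g⁻¹ : GL (Fin 3) F) : Matrix (Fin 3) (Fin 3) F) *ᵥ (x : Fin 3 → F) with hy
  have hgy : (g : Matrix (Fin 3) (Fin 3) F) *ᵥ y = x := by
    rw [hy, Matrix.mulVec_mulVec, ← Units.val_mul, mul_inv_cancel, Units.val_one, Matrix.one_mulVec]
  have hy0 : y ≠ 0 := by
    intro h2
    rw [h2, Matrix.mulVec_zero] at hgy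
    exact hx0 (Subtype.ext hgy.symm)
  have h2 : ((g * suHom 3 F q b * g⁻¹ : GL (Fin 3) F) : Matrix (Fin 3) (Fin 3) F) *ᵥ (x : Fin 3 → F) ∈ W :=
    (hgW x).1 x.2
  obtain ⟨c, hc⟩ := hx ⟨_, h2⟩
  have h3 : c • (x : Fin 3 → F) = ((g * suHom 3 F q b * g⁻¹ : GL (Fin 3) F) : Matrix (Fin 3) (Fin 3) F) *ᵥ
    (x : Fin 3 → F) := congrArg Subtype.val hc
  have h4 : act b y = c • y := by
    rw [Units.val_mul, Units.val_mul, ← Matrix.mulVec_mulVec, ← hy, ← Matrix.mulVec_mulVec, suHom_mulVec] at h3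
    have h5 := congrArg (fun z => ((g⁻¹ : GL (Fin 3) F) : Matrix (Fin 3) (Fin 3) F) *ᵥ z) h3
    simp only [Matrix.mulVec_mulVec, ← Units.val_mul, inv_mul_cancel, Units.val_one, Matrix.one_mulVec,
      Matrix.mulVec_smul] at h5
    rw [← h5, hy]
  have h5 := R.eigen hF hy0 h4
  rw [← (mem_SUg.1 hg).1, hgy] at h5
  obtain ⟨⟨z, hz, hzx⟩, -⟩ := hWn x x.2 (fun h => hx0 (Subtype.ext h))
  obtain ⟨c, hc⟩ := hx ⟨z, hz⟩
  have h6 : c • (x : Fin 3 → F) = z := congrArg Subtype.val hc
  rw [← h6, herm_smul_left, h5, mul_zero] at hzx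
  exact hzx rfl

theorem conj_pow_suHom (g : GL (Fin 3) F) (b : SU 3 F q) (k : ℕ) :
    (g * suHom 3 F q b * g⁻¹) ^ k = g * suHom 3 F q (b ^ k) * g⁻¹ := by
  rw [conj_pow, map_pow]

/-- no stabiliser of a decomposition into lines -/
theorem Reg.no_dec (R : Reg F q b e w f) (hF : Fintype.card F = q ^ 2) {p : ℕ} [hp : Fact p.Prime] [CharP F p]
    (hp3 : p ≠ 3) {g : GL (Fin 3) F} {D : Fin 3 → Submodule F (Fin 3 → F)}
    (hD : IsMDecomposition 1 D) (hx : g * suHom 3 F q b * g⁻¹ ∈ decompositionStabilizer D) : False := by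
  set x := g * suHom 3 F q b * g⁻¹ with hxd
  obtain ⟨σ, hσ⟩ := hx
  have key : ∀ k i, (D i).map (Matrix.toLin' ((x ^ k : GL (Fin 3) F) : Matrix (Fin 3) (Fin 3) F)) = D ((σ ^ k) i) := by
    intro k
    induction k with
    | zero => intro i; simp
    | succ k ih =>
      intro i
      rw [pow_succ', Units.val_mul, Matrix.toLin'_mul, Submodule.map_comp, ih, hσ, pow_succ', Equiv.Perm.mul_apply]
  have h6 : σ ^ 6 = 1 := by
    have h1 : σ ^ Fintype.card (Equiv.Perm (Fin 3)) = 1 := pow_card_eq_one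
    rwa [Fintype.card_perm, Fintype.card_fin] at h1
  have hxp : (x ^ 6) ^ (p ^ 2) = 1 := by
    rw [← pow_mul, mul_comm, pow_mul, hxd, conj_pow_suHom, R.pow2 hF, map_one, mul_one, mul_inv_cancel, one_pow]
  have hfix : ∀ i, ∀ v ∈ D i, ((x ^ 6 : GL (Fin 3) F) : Matrix (Fin 3) (Fin 3) F) *ᵥ v = v := by
    intro i v hv
    have h7 := key 6 i
    rw [h6, Equiv.Perm.one_apply] at h7
    obtain ⟨u, hu0, hu⟩ := finrank_eq_one_iff'.1 (hD.finrank_eq i)
    have h8 : ((x ^ 6 : GL (Fin 3) F) : Matrix (Fin 3) (Fin 3) F) *ᵥ (u : Fin 3 → F) ∈ D i := by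
      rw [← Matrix.toLin'_apply]
      have := Submodule.mem_map_of_mem (f := Matrix.toLin' ((x ^ 6 : GL (Fin 3) F) : Matrix (Fin 3) (Fin 3) F)) u.2
      rwa [h7] at this
    obtain ⟨c, hc⟩ := hu ⟨_, h8⟩
    have h9 : c • (u : Fin 3 → F) = ((x ^ 6 : GL (Fin 3) F) : Matrix (Fin 3) (Fin 3) F) *ᵥ (u : Fin 3 → F) :=
      congrArg Subtype.val hc
    have h10 : ∀ k : ℕ, (((x ^ 6) ^ k : GL (Fin 3) F) : Matrix (Fin 3) (Fin 3) F) *ᵥ (u : Fin 3 → F) =
        c ^ k • (u : Fin 3 → F) := by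
      intro k
      induction k with
      | zero => simp
      | succ k ih =>
        rw [pow_succ', Units.val_mul, ← Matrix.mulVec_mulVec, ih, Matrix.mulVec_smul, ← h9, smul_smul, pow_succ]
    have h11 := h10 (p ^ 2)
    rw [hxp, Units.val_one, Matrix.one_mulVec] at h11
    have hu0' : (u : Fin 3 → F) ≠ 0 := fun h => hu0 (Subtype.ext h)
    have h12 : c ^ p ^ 2 = 1 := by
      have h13 : (c ^ p ^ 2 - 1) • (u : Fin 3 → F) = 0 := by rw [sub_smul, one_smul, ← h11, sub_self]
      exact sub_eq_zero.1 ((smul_eq_zero.1 h13).resolve_right hu0')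
    have h13 : c = 1 := by
      have h14 : (c - 1) ^ p ^ 2 = 0 := by rw [sub_pow_char_pow, h12, one_pow, sub_self]
      exact sub_eq_zero.1 (pow_eq_zero_iff (pow_ne_zero 2 hp.out.ne_zero) |>.1 h14)
    obtain ⟨t, ht⟩ := hu ⟨v, hv⟩
    have h14 : t • (u : Fin 3 → F) = v := congrArg Subtype.val ht
    rw [← h14, Matrix.mulVec_smul, ← h9, h13, one_smul]
  have hall : ∀ v : Fin 3 → F, ((x ^ 6 : GL (Fin 3) F) : Matrix (Fin 3) (Fin 3) F) *ᵥ v = v := by
    intro v
    have hv : v ∈ iSup D := by rw [hD.iSup_eq_top]; trivial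
    induction hv using Submodule.iSup_induction' with
    | mem i v hv => exact hfix i v hv
    | zero => rw [Matrix.mulVec_zero]
    | add a b _ _ ha hb => rw [Matrix.mulVec_add, ha, hb]
  have hx6 : x ^ 6 = 1 := by
    apply Units.ext
    rw [Units.val_one]
    apply Matrix.ext_of_mulVec_single
    intro i
    rw [hall, Matrix.one_mulVec]
  rw [hxd, conj_pow_suHom] at hx6
  have h7 : suHom 3 F q (b ^ 6) = 1 := by
    calc suHom 3 F q (b ^ 6) = g⁻¹ * (g * suHom 3 F q (b ^ 6) * g⁻¹) * g := by group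
      _ = 1 := by rw [hx6]; group
  exact R.no_six hF hp3 (suHom_injective (by rw [h7, map_one]))

/-- `b` is not a scalar -/
theorem Reg.no_scalar (R : Reg F q b e w f) (hF : Fintype.card F = q ^ 2) {g : GL (Fin 3) F}
    (hs : ∃ c : F, ((g * suHom 3 F q b * g⁻¹ : GL (Fin 3) F) : Matrix (Fin 3) (Fin 3) F) =
      c • (1 : Matrix (Fin 3) (Fin 3) F)) : False := by
  obtain ⟨c, hc⟩ := hs
  have h1 : ((suHom 3 F q b : GL (Fin 3) F) : Matrix (Fin 3) (Fin 3) F) = c • (1 : Matrix (Fin 3) (Fin 3) F) := by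
    have h2 : suHom 3 F q b = g⁻¹ * (g * suHom 3 F q b * g⁻¹) * g := by group
    rw [h2, Units.val_mul, Units.val_mul, hc]
    rw [Matrix.mul_smul, Matrix.smul_mul, mul_one, ← Units.val_mul, inv_mul_cancel, Units.val_one]
  have h2 : ∀ v, act b v = c • v := by
    intro v
    rw [← suHom_mulVec, h1, Matrix.smul_mulVec, Matrix.one_mulVec]
  have h3 : ∀ v, nil b v = (c - 1) • v := by
    intro v
    rw [nil, h2, sub_smul, one_smul]
  have h4 := R.nil_e hF
  rw [h3] at h4
  have h5 := (smul_eq_zero.1 h4).resolve_right R.e0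
  apply R.nil2_f hF
  rw [h3 f, h5, zero_smul, nil_zero]

end reg

end Cfsg.Agent.H947.Cv
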