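import Cfsg.Agent.H947.Cv.Psu3A

/-!
# No covering by two classes of proper subgroups (helper947, for S2499): `PSU₃(q)`, the diagonal element
-/

set_option autoImplicit false
set_option linter.style.haveILetI false
set_option linter.unusedSectionVars false

namespace Cfsg.Agent.H947.Cv

open Subgroup Cfsg Cfsg.Geo Cfsg.Agent.H947.Sq Module Cfsg.Agent.H918 Cfsg.Agent.H907.Mx Cfsg.Agent.H947.El
open Cfsg.Agent.LieClassical.HermSiegel Cfsg.Agent.LieClassical.HermBasic Cfsg.Agent.LieClassical.HermGen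
  Cfsg.Agent.ClassicalGeometry.PSUAutBasic Cfsg.Agent.ClassicalGeometry.PSUAutPhi
open scoped MatrixGroups Matrix

section dg

variable {F : Type*} [Field F] [Fintype F] {q : ℕ}

/-- the element of order `q + 1` -/
theorem exists_zeta (hF : Fintype.card F = q ^ 2) : ∃ z : Fˣ, orderOf z = q + 1 := by
  have h2 := two_le hF
  obtain ⟨g, hg⟩ := IsCyclic.exists_generator (α := Fˣ)
  have h1 : orderOf g = q ^ 2 - 1 := by
    rw [orderOf_eq_card_of_forall_mem_zpowers hg, Nat.card_units, Nat.card_eq_fintype_card, hF]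
  have h3 : q ^ 2 - 1 = (q + 1) * (q - 1) := by
    have := Nat.sq_sub_sq q 1
    rwa [one_pow] at this
  refine ⟨g ^ (q - 1), ?_⟩
  rw [orderOf_pow' g (by omega), h1, h3, Nat.gcd_mul_left_left, Nat.mul_div_cancel _ (by omega)]

/-- the exponents -/
structure Ex (N : ℕ) (e : Fin 3 → ℤ) : Prop where
  sum : e 0 + e 1 + e 2 = 0
  d10 : e 1 - e 0 = 1
  d20 : ¬ (N : ℤ) ∣ e 2 - e 0
  d21 : ¬ (N : ℤ) ∣ e 2 - e 1

/-- the diagonal element -/
def dg (z : Fˣ) (hz : orderOf z = q + 1) (e : Fin 3 → ℤ) (he : e 0 + e 1 + e 2 = 0) : SU 3 F q :=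
  mkSU (Matrix.diagonal fun i => ((z ^ e i : Fˣ) : F))
    (by
      rw [Matrix.det_diagonal, Fin.prod_univ_three, ← Units.val_mul, ← Units.val_mul, ← zpow_add, ← zpow_add, he,
        zpow_zero, Units.val_one])
    (by
      intro u v
      rw [herm_def, herm_def]
      refine Finset.sum_congr rfl fun i _ => ?_
      rw [Matrix.mulVec_diagonal, Matrix.mulVec_diagonal, mul_pow]
      have h1 : ((z ^ e i : Fˣ) : F) ^ (q + 1) = 1 := by
        rw [← Units.val_pow_eq_pow_val, ← zpow_natCast, ← zpow_mul, mul_comm, zpow_mul, zpow_natCast, ← hz,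
          pow_orderOf_eq_one, one_zpow, Units.val_one]
      calc ((z ^ e i : Fˣ) : F) * u i * (((z ^ e i : Fˣ) : F) ^ q * v i ^ q) =
          ((z ^ e i : Fˣ) : F) ^ (q + 1) * (u i * v i ^ q) := by ring
        _ = u i * v i ^ q := by rw [h1, one_mul])

variable {z : Fˣ} (hz : orderOf z = q + 1) {e : Fin 3 → ℤ}

theorem act_dg (he : e 0 + e 1 + e 2 = 0) (v : Fin 3 → F) (i : Fin 3) :
    act (dg z hz e he) v i = ((z ^ e i : Fˣ) : F) * v i := by
  show ((Matrix.diagonal fun i => ((z ^ e i : Fˣ) : F)) *ᵥ v) i = _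
  rw [Matrix.mulVec_diagonal]

include hz in
theorem zpow_eq {a b : ℤ} (h : ((z ^ a : Fˣ) : F) = ((z ^ b : Fˣ) : F)) : ((q + 1 : ℕ) : ℤ) ∣ a - b := by
  have h1 : z ^ a = z ^ b := Units.ext h
  rw [← hz, orderOf_dvd_iff_zpow_eq_one, zpow_sub, h1, mul_inv_cancel]

include hz in
/-- the eigenvalues are distinct -/
theorem Ex.ne (E : Ex (q + 1) e) (hq : 2 ≤ q) {i j : Fin 3} (hij : i ≠ j) :
    ((z ^ e i : Fˣ) : F) ≠ ((z ^ e j : Fˣ) : F) := by
  intro h
  have h1 := zpow_eq hz h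
  have h10 : ¬ ((q + 1 : ℕ) : ℤ) ∣ e 1 - e 0 := by
    rw [E.d10]
    intro h2
    have := Int.le_of_dvd (by norm_num) h2
    push_cast at this
    omega
  have hsymm : ∀ a b : ℤ, ¬ ((q + 1 : ℕ) : ℤ) ∣ a - b → ¬ ((q + 1 : ℕ) : ℤ) ∣ b - a := by
    intro a b h2 h3
    exact h2 (by rw [← neg_sub]; exact (dvd_neg).2 h3)
  have h01 := hsymm _ _ h10
  have h20 := E.d20
  have h02 := hsymm _ _ h20
  have h21 := E.d21
  have h12 := hsymm _ _ h21
  fin_cases i <;> fin_cases j <;> simp only [Fin.isValue, Fin.mk_one, Fin.zero_eta, Fin.reduceFinMk, ne_eq,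
    not_true_eq_false] at hij h1 <;> contradiction

/-- no stabiliser of a totally singular subspace -/
theorem Ex.no_iso (E : Ex (q + 1) e) (hF : Fintype.card F = q ^ 2) {g : GL (Fin 3) F} (hg : g ∈ SUg 3 F q)
    {W : Submodule F (Fin 3 → F)} (hW0 : W ≠ ⊥) (hWn : IsTotallySingularFor (hermForm 3 F q) W)
    (hgW : g * suHom 3 F q (dg z hz e E.sum) * g⁻¹ ∈ subspaceStabilizer W) : False := by
  have hq := two_le hF
  obtain ⟨x, hxW, hx0⟩ := (Submodule.ne_bot_iff _).1 hW0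
  set c := dg z hz e E.sum with hc
  -- the subspace `g⁻¹ W`
  have hcW : ∀ y : Fin 3 → F, (g : Matrix (Fin 3) (Fin 3) F) *ᵥ y ∈ W → (g : Matrix (Fin 3) (Fin 3) F) *ᵥ (act c y) ∈ W := by
    intro y hy
    have h1 := (hgW ((g : Matrix (Fin 3) (Fin 3) F) *ᵥ y)).1 hy
    have h2 : glToMat (Fin 3) F (g * suHom 3 F q c * g⁻¹) *ᵥ ((g : Matrix (Fin 3) (Fin 3) F) *ᵥ y) =
        (g : Matrix (Fin 3) (Fin 3) F) *ᵥ (act c y) := by
      show ((g * suHom 3 F q c * g⁻¹ : GL (Fin 3) F) : Matrix (Fin 3) (Fin 3) F) *ᵥ _ = _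
      rw [Matrix.mulVec_mulVec, ← Units.val_mul, ← suHom_mulVec, Matrix.mulVec_mulVec, ← Units.val_mul]
      congr 2
      group
    rw [← h2]
    exact h1
  set y : Fin 3 → F := ((g⁻¹ : GL (Fin 3) F) : Matrix (Fin 3) (Fin 3) F) *ᵥ x with hy
  have hgy : (g : Matrix (Fin 3) (Fin 3) F) *ᵥ y = x := by
    rw [hy, Matrix.mulVec_mulVec, ← Units.val_mul, mul_inv_cancel, Units.val_one, Matrix.one_mulVec]
  have hy0 : y ≠ 0 := by
    intro h2
    rw [h2, Matrix.mulVec_zero] at hgy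
    exact hx0 hgy.symm
  obtain ⟨i, hi⟩ : ∃ i, y i ≠ 0 := by
    by_contra hcon
    push Not at hcon
    exact hy0 (funext hcon)
  obtain ⟨j, k, hij, hik, hjk, hall⟩ : ∃ j k : Fin 3, i ≠ j ∧ i ≠ k ∧ j ≠ k ∧ ∀ l, l = i ∨ l = j ∨ l = k := by
    fin_cases i
    · exact ⟨1, 2, by decide, by decide, by decide, by decide⟩
    · exact ⟨0, 2, by decide, by decide, by decide, by decide⟩
    · exact ⟨0, 1, by decide, by decide, by decide, by decide⟩
  set dj := ((z ^ e j : Fˣ) : F) with hdj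
  set dk := ((z ^ e k : Fˣ) : F) with hdk
  set di := ((z ^ e i : Fˣ) : F) with hdi
  set u : Fin 3 → F := act c (act c y) - (dj + dk) • act c y + (dj * dk) • y with hu
  have huW : (g : Matrix (Fin 3) (Fin 3) F) *ᵥ u ∈ W := by
    rw [hu, Matrix.mulVec_add, Matrix.mulVec_sub, Matrix.mulVec_smul, Matrix.mulVec_smul]
    have h0 : (g : Matrix (Fin 3) (Fin 3) F) *ᵥ y ∈ W := by rw [hgy]; exact hxW
    have h1 := hcW y h0
    have h2 := hcW _ h1
    exact W.add_mem (W.sub_mem h2 (W.smul_mem _ h1)) (W.smul_mem _ h0)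
  have hul : ∀ l, u l = (((z ^ e l : Fˣ) : F) - dj) * (((z ^ e l : Fˣ) : F) - dk) * y l := by
    intro l
    rw [hu]
    simp only [Pi.add_apply, Pi.sub_apply, Pi.smul_apply, smul_eq_mul]
    rw [hc, act_dg, act_dg]
    ring
  have hu' : u = Pi.single i ((di - dj) * (di - dk) * y i) := by
    funext l
    rw [hul]
    rcases hall l with rfl | rfl | rfl
    · rw [Pi.single_eq_same]
    · rw [Pi.single_eq_of_ne hij.symm, hdj]; ring
    · rw [Pi.single_eq_of_ne hik.symm, hdk]; ring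
  have h1 := hWn _ huW _ huW
  rw [(mem_SUg.1 hg).1, hu', herm_single_right hF, Pi.single_eq_same] at h1
  have h2 : (di - dj) * (di - dk) * y i ≠ 0 :=
    mul_ne_zero (mul_ne_zero (sub_ne_zero.2 (E.ne hz hq hij)) (sub_ne_zero.2 (E.ne hz hq hik))) hi
  exact (mul_ne_zero h2 (pow_ne_zero _ h2)) h1

/-- the eigenvalues of an element of a subfield group -/
theorem subfield_eig {F₀ : Subfield F} {P : GL (Fin 3) F} {x : GL (Fin 3) F} (hx : x ∈ subfieldSubgroup F₀ P)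
    (τ : F →+* F) (hτ : ∀ a ∈ F₀, τ a = a) :
    ∃ l : F, l ≠ 0 ∧ ∀ a : F, ((a • (1 : Matrix (Fin 3) (Fin 3) F)) - (x : Matrix (Fin 3) (Fin 3) F)).det = 0 →
      (((l * τ a) • (1 : Matrix (Fin 3) (Fin 3) F)) - (x : Matrix (Fin 3) (Fin 3) F)).det = 0 := by
  obtain ⟨y, hy, hyx⟩ := hx
  rw [SetLike.mem_coe, Subgroup.mem_sup_of_normal_right] at hy
  obtain ⟨_, ⟨a₀, rfl⟩, s, hs, rfl⟩ := hy
  obtain ⟨c, hc⟩ := (mem_scalars_iff s).1 hs
  set A : Matrix (Fin 3) (Fin 3) F := ((Matrix.GeneralLinearGroup.map (F₀.subtype : F₀ →+* F) a₀ : GL (Fin 3) F) :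
    Matrix (Fin 3) (Fin 3) F) with hA
  have hτc : τ (c : F) ≠ 0 := (map_ne_zero τ).2 c.ne_zero
  have hxe : (x : Matrix (Fin 3) (Fin 3) F) = (P : Matrix (Fin 3) (Fin 3) F) * ((c : F) • A) *
      ((P⁻¹ : GL (Fin 3) F) : Matrix (Fin 3) (Fin 3) F) := by
    have h1 : P * (Matrix.GeneralLinearGroup.map (F₀.subtype : F₀ →+* F) a₀ * s) * P⁻¹ = x := hyx
    rw [← h1, Units.val_mul, Units.val_mul, Units.val_mul, hc, ← hA]
    congr 2
    rw [Matrix.mul_smul, mul_one]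
  have hdet : ∀ t : F, ((((c : F) * t) • (1 : Matrix (Fin 3) (Fin 3) F)) - (x : Matrix (Fin 3) (Fin 3) F)).det =
      (c : F) ^ 3 * ((t • (1 : Matrix (Fin 3) (Fin 3) F)) - A).det := by
    intro t
    have h1 : (((c : F) * t) • (1 : Matrix (Fin 3) (Fin 3) F)) - (x : Matrix (Fin 3) (Fin 3) F) =
        (P : Matrix (Fin 3) (Fin 3) F) * ((c : F) • ((t • (1 : Matrix (Fin 3) (Fin 3) F)) - A)) *
          ((P⁻¹ : GL (Fin 3) F) : Matrix (Fin 3) (Fin 3) F) := by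
      rw [smul_sub, Matrix.mul_sub, Matrix.sub_mul, ← hxe]
      congr 1
      rw [smul_smul, Matrix.mul_smul, Matrix.smul_mul, mul_one, ← Units.val_mul, mul_inv_cancel, Units.val_one]
    rw [h1, Matrix.det_mul, Matrix.det_mul, mul_right_comm, ← Matrix.det_mul, ← Units.val_mul, mul_inv_cancel,
      Units.val_one, Matrix.det_one, one_mul, Matrix.det_smul, Fintype.card_fin]
  have hτdet : ∀ t : F, ((τ t • (1 : Matrix (Fin 3) (Fin 3) F)) - A).det = τ (((t • (1 : Matrix (Fin 3) (Fin 3) F)) - A).det) := by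
    intro t
    rw [RingHom.map_det]
    congr 1
    ext i j
    simp only [RingHom.mapMatrix_apply, Matrix.map_apply, Matrix.sub_apply, Matrix.smul_apply, smul_eq_mul, map_sub, map_mul]
    congr 1
    · by_cases hij : i = j
      · subst hij; simp
      · simp [Matrix.one_apply_ne hij]
    · exact (hτ _ (a₀.1 i j).2).symm
  refine ⟨(c : F) * (τ c)⁻¹, mul_ne_zero c.ne_zero (inv_ne_zero hτc), fun a ha => ?_⟩
  have h1 := hdet ((c : F)⁻¹ * a)
  rw [mul_inv_cancel_left₀ c.ne_zero, ha] at h1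
  have h2 : (((c : F)⁻¹ * a) • (1 : Matrix (Fin 3) (Fin 3) F) - A).det = 0 :=
    (mul_eq_zero.1 h1.symm).resolve_left (pow_ne_zero 3 c.ne_zero)
  have h3 := hτdet ((c : F)⁻¹ * a)
  rw [h2, map_zero] at h3
  have h4 := hdet (τ ((c : F)⁻¹ * a))
  rw [h3, mul_zero] at h4
  rw [← h4, map_mul, map_inv₀, mul_assoc]

/-- `c` in a subfield group -/
theorem dg_subfield (he : e 0 + e 1 + e 2 = 0) {F₀ : Subfield F} {P g : GL (Fin 3) F}
    (hx : g * suHom 3 F q (dg z hz e he) * g⁻¹ ∈ subfieldSubgroup F₀ P)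
    (τ : F →+* F) (hτ : ∀ a ∈ F₀, τ a = a) :
    ∃ l : F, l ≠ 0 ∧ ∀ i : Fin 3, ∃ j : Fin 3, l * τ ((z ^ e i : Fˣ) : F) = ((z ^ e j : Fˣ) : F) := by
  obtain ⟨l, hl, hall⟩ := subfield_eig hx τ hτ
  have hdet : ∀ t : F, ((t • (1 : Matrix (Fin 3) (Fin 3) F)) -
      ((g * suHom 3 F q (dg z hz e he) * g⁻¹ : GL (Fin 3) F) : Matrix (Fin 3) (Fin 3) F)).det =
      (t - ((z ^ e 0 : Fˣ) : F)) * (t - ((z ^ e 1 : Fˣ) : F)) * (t - ((z ^ e 2 : Fˣ) : F)) := by
    intro t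
    have h1 : (t • (1 : Matrix (Fin 3) (Fin 3) F)) -
        ((g * suHom 3 F q (dg z hz e he) * g⁻¹ : GL (Fin 3) F) : Matrix (Fin 3) (Fin 3) F) =
        (g : Matrix (Fin 3) (Fin 3) F) * (Matrix.diagonal fun i => t - ((z ^ e i : Fˣ) : F)) *
          ((g⁻¹ : GL (Fin 3) F) : Matrix (Fin 3) (Fin 3) F) := by
      have h2 : (Matrix.diagonal fun i => t - ((z ^ e i : Fˣ) : F)) = t • (1 : Matrix (Fin 3) (Fin 3) F) -
          ((suHom 3 F q (dg z hz e he) : GL (Fin 3) F) : Matrix (Fin 3) (Fin 3) F) := by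
        show _ = t • (1 : Matrix (Fin 3) (Fin 3) F) - Matrix.diagonal fun i => ((z ^ e i : Fˣ) : F)
        rw [Matrix.smul_one_eq_diagonal, Matrix.diagonal_sub]
      rw [h2, Matrix.mul_sub, Matrix.sub_mul, Matrix.mul_smul, Matrix.smul_mul, mul_one, ← Units.val_mul,
        mul_inv_cancel, Units.val_one, Units.val_mul, Units.val_mul]
    rw [h1, Matrix.det_mul, Matrix.det_mul, mul_right_comm, ← Matrix.det_mul, ← Units.val_mul, mul_inv_cancel,
      Units.val_one, Matrix.det_one, one_mul, Matrix.det_diagonal, Fin.prod_univ_three]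
  refine ⟨l, hl, fun i => ?_⟩
  have h1 := hall ((z ^ e i : Fˣ) : F) (by
    rw [hdet]
    fin_cases i <;> simp)
  rw [hdet] at h1
  rcases mul_eq_zero.1 h1 with h2 | h2
  · rcases mul_eq_zero.1 h2 with h3 | h3
    · exact ⟨0, sub_eq_zero.1 h3⟩
    · exact ⟨1, sub_eq_zero.1 h3⟩
  · exact ⟨2, sub_eq_zero.1 h2⟩

/-- the congruences -/
theorem dg_congr (he : e 0 + e 1 + e 2 = 0) {F₀ : Subfield F} {P g : GL (Fin 3) F}
    (hx : g * suHom 3 F q (dg z hz e he) * g⁻¹ ∈ subfieldSubgroup F₀ P) {p : ℕ} [hp : Fact p.Prime] [CharP F p] {k : ℕ}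
    (hk : Nat.card F₀ = p ^ k) :
    ∃ j : Fin 3 → Fin 3, ∀ i, ((q + 1 : ℕ) : ℤ) ∣ (e (j i) - e (j 0)) - (e i - e 0) * (p ^ k : ℕ) := by
  have hfin : Finite F₀ := inferInstance
  let _ : Fintype F₀ := Fintype.ofFinite F₀
  have hτ : ∀ a ∈ F₀, iterateFrobenius F p k a = a := by
    intro a ha
    rw [iterateFrobenius_def, ← hk, Nat.card_eq_fintype_card]
    exact congrArg Subtype.val (FiniteField.pow_card (⟨a, ha⟩ : F₀))
  obtain ⟨l, hl, hall⟩ := dg_subfield hz he hx (iterateFrobenius F p k) hτ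
  choose j hj using hall
  refine ⟨j, fun i => ?_⟩
  set L : Fˣ := Units.mk0 l hl with hL
  have h1 : ∀ i, L * z ^ (e i * (p ^ k : ℕ)) = z ^ e (j i) := by
    intro i
    apply Units.ext
    rw [Units.val_mul, ← hj i, iterateFrobenius_def, hL, Units.val_mk0, zpow_mul, zpow_natCast,
      Units.val_pow_eq_pow_val]
  have h2 : z ^ (e (j i) - e (j 0)) = z ^ ((e i - e 0) * (p ^ k : ℕ)) := by
    rw [zpow_sub, ← h1 i, ← h1 0, sub_mul, zpow_sub]
    rw [_root_.mul_inv_rev, mul_comm (z ^ (e 0 * ((p ^ k : ℕ) : ℤ)))⁻¹, mul_assoc, mul_comm L, mul_assoc,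
      mul_assoc, mul_comm L⁻¹]
    simp [mul_assoc, mul_comm]
  have h3 : ((z ^ (e (j i) - e (j 0)) : Fˣ) : F) = ((z ^ ((e i - e 0) * (p ^ k : ℕ)) : Fˣ) : F) := congrArg Units.val h2
  exact zpow_eq hz h3

end dg

end Cfsg.Agent.H947.Cv
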